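import Mathlib
import Cfsg.Prelude.Def_LieTypeDatum
import Cfsg.Agent.Lib.Lead.SympBasic

/-!
Eichler elements of `Sp_{2m}(F)` and the automorphisms of `PSp_{2m}(F)` induced by similitudes and
field automorphisms.
-/

set_option autoImplicit false
set_option linter.unusedSectionVars false

namespace Cfsg.Agent.Small.PSpn

open Matrix
open Cfsg.Agent.Lead.Symp (form_eq form_self form_swap form_preserved)

variable {F : Type*} [Field F] {m : ℕ}

local notation "Vm" => Fin m ⊕ Fin m → F
local notation "Mm" => Matrix (Fin m ⊕ Fin m) (Fin m ⊕ Fin m) F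
local notation "Gm" => Matrix.symplecticGroup (Fin m) F
local notation "Pm" => Cfsg.PSp m F
local notation "Hm" => Cfsg.GSp m F

/-- The alternating form. -/
abbrev sf (u v : Vm) : F := Cfsg.sympForm m F u v

theorem sf_add_left (u v w : Vm) : sf (u + v) w = sf u w + sf v w := add_dotProduct _ _ _

theorem sf_add_right (u v w : Vm) : sf u (v + w) = sf u v + sf u w := by
  simp [sf, Cfsg.sympForm, Matrix.mulVec_add, dotProduct_add]

theorem sf_sub_left (u v w : Vm) : sf (u - v) w = sf u w - sf v w := sub_dotProduct _ _ _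

theorem sf_sub_right (u v w : Vm) : sf u (v - w) = sf u v - sf u w := by
  simp [sf, Cfsg.sympForm, Matrix.mulVec_sub, dotProduct_sub]

theorem sf_smul_left (c : F) (u w : Vm) : sf (c • u) w = c * sf u w := smul_dotProduct _ _ _

theorem sf_smul_right (c : F) (u w : Vm) : sf u (c • w) = c * sf u w := by
  simp [sf, Cfsg.sympForm, Matrix.mulVec_smul, dotProduct_smul]

theorem sf_zero_left (v : Vm) : sf 0 v = 0 := zero_dotProduct _

theorem sf_zero_right (v : Vm) : sf v 0 = 0 := by
  rw [sf, Cfsg.sympForm, Matrix.mulVec_zero, dotProduct_zero]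

theorem ext_mulVec {A B : Mm} (h : ∀ x, A *ᵥ x = B *ᵥ x) : A = B :=
  Matrix.ext_of_mulVec_single fun _ => h _

/-- The action on column vectors. -/
def act (g : Gm) (v : Vm) : Vm := g.1 *ᵥ v

theorem act_one (v : Vm) : act (1 : Gm) v = v := Matrix.one_mulVec v

theorem act_mul (g h : Gm) (v : Vm) : act (g * h) v = act g (act h v) :=
  (Matrix.mulVec_mulVec v g.1 h.1).symm

theorem act_inv_act (g : Gm) (v : Vm) : act g⁻¹ (act g v) = v := by
  rw [← act_mul, inv_mul_cancel, act_one]

theorem act_act_inv (g : Gm) (v : Vm) : act g (act g⁻¹ v) = v := by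
  rw [← act_mul, mul_inv_cancel, act_one]

theorem act_add (g : Gm) (u v : Vm) : act g (u + v) = act g u + act g v := Matrix.mulVec_add _ _ _

theorem act_sub (g : Gm) (u v : Vm) : act g (u - v) = act g u - act g v := Matrix.mulVec_sub _ _ _

theorem act_smul (g : Gm) (c : F) (u : Vm) : act g (c • u) = c • act g u :=
  Matrix.mulVec_smul _ _ _

theorem act_zero (g : Gm) : act g (0 : Vm) = 0 := Matrix.mulVec_zero _

theorem act_injective (g : Gm) : Function.Injective (act g) := fun u v h => by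
  rw [← act_inv_act g u, h, act_inv_act]

theorem eq_of_act {g h : Gm} (hgh : ∀ x, act g x = act h x) : g = h :=
  Subtype.ext (ext_mulVec hgh)

theorem sf_act (g : Gm) (u v : Vm) : sf (act g u) (act g v) = sf u v := form_preserved g.2 u v

theorem gram_entry (A : Mm) (a b : Fin m ⊕ Fin m) :
    (Aᵀ * Matrix.J (Fin m) F * A) a b = sf (A *ᵥ Pi.single a 1) (A *ᵥ Pi.single b 1) := by
  rw [Matrix.mul_assoc, Matrix.mul_apply, sf, Cfsg.sympForm, Matrix.mulVec_single_one,
    Matrix.mulVec_single_one, dotProduct]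
  rfl

theorem mem_of_form {A : Mm} (h : ∀ u v : Vm, sf (A *ᵥ u) (A *ᵥ v) = sf u v) : A ∈ Gm := by
  rw [SymplecticGroup.mem_iff']
  ext a b
  rw [gram_entry, h, ← one_mulVec (Pi.single a (1 : F)), ← one_mulVec (Pi.single b (1 : F)),
    ← gram_entry, Matrix.transpose_one, Matrix.one_mul, Matrix.mul_one]

/-! ### Eichler elements -/

/-- `x ↦ x + ⟨e,x⟩ z + (a ⟨e,x⟩ + ⟨z,x⟩) e`. -/
def eLin (e z : Vm) (a : F) : Vm →ₗ[F] Vm where
  toFun x := x + sf e x • z + (a * sf e x + sf z x) • e
  map_add' x y := by simp only [sf_add_right]; module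
  map_smul' c x := by simp only [sf_smul_right, RingHom.id_apply]; module

/-- The Eichler matrix. -/
def eMat (e z : Vm) (a : F) : Mm := LinearMap.toMatrix' (eLin e z a)

theorem eMat_mulVec (e z : Vm) (a : F) (x : Vm) :
    eMat e z a *ᵥ x = x + sf e x • z + (a * sf e x + sf z x) • e :=
  LinearMap.toMatrix'_mulVec _ _

open _root_.Classical in
/-- The Eichler element, `1` for bad parameters. -/
noncomputable def eich (e z : Vm) (a : F) : Gm :=
  if h : sf e z = 0 then
    ⟨eMat e z a, mem_of_form fun u v => by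
      have hze : sf z e = 0 := by rw [sf, form_swap, ← sf, h, neg_zero]
      simp only [eMat_mulVec, sf_add_left, sf_add_right, sf_smul_left, sf_smul_right, h, hze,
        sf, form_self]
      rw [form_swap z u, form_swap e u]
      ring⟩
  else 1

theorem act_eich {e z : Vm} (a : F) (h : sf e z = 0) (x : Vm) :
    act (eich e z a) x = x + sf e x • z + (a * sf e x + sf z x) • e := by
  rw [eich, dif_pos h]
  exact eMat_mulVec e z a x

theorem act_eich_zero (e : Vm) (t : F) (x : Vm) :
    act (eich e 0 t) x = x + (t * sf e x) • e := by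
  rw [act_eich t (sf_zero_right e), sf_zero_left]
  simp

theorem act_eich_self {e z : Vm} (a : F) (h : sf e z = 0) : act (eich e z a) e = e := by
  have hze : sf z e = 0 := by rw [sf, form_swap, ← sf, h, neg_zero]
  rw [act_eich a h, show sf e e = 0 from form_self e, hze]
  simp

theorem eich_zero_zero (e : Vm) : eich e 0 (0 : F) = 1 := by
  apply eq_of_act
  intro x
  rw [act_eich_zero, act_one]
  simp

theorem perp_add {e z w : Vm} (h : sf e z = 0) (h' : sf e w = 0) : sf e (z + w) = 0 := by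
  rw [sf_add_right, h, h', add_zero]

theorem eich_mul {e z w : Vm} (a b : F) (h : sf e z = 0) (h' : sf e w = 0) :
    eich e z a * eich e w b = eich e (z + w) (a + b + sf z w) := by
  apply eq_of_act
  intro x
  have hze : sf z e = 0 := by rw [sf, form_swap, ← sf, h, neg_zero]
  rw [act_mul, act_eich a h, act_eich b h', act_eich _ (perp_add h h')]
  simp only [sf_add_left, sf_add_right, sf_smul_right, show sf e e = 0 from form_self e, h', hze]
  module

theorem eich_conj (g : Gm) {e z : Vm} (a : F) (h : sf e z = 0) :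
    g * eich e z a * g⁻¹ = eich (act g e) (act g z) a := by
  rw [mul_inv_eq_iff_eq_mul]
  apply eq_of_act
  intro x
  rw [act_mul, act_mul, act_eich a h, act_eich a (by rw [sf_act]; exact h)]
  simp only [act_add, act_smul, sf_act]

theorem eich_smul {e z : Vm} (a : F) {c : F} (hc : c ≠ 0) (h : sf (c • e) z = 0) :
    eich (c • e) z a = eich e (c • z) (c * c * a) := by
  rw [sf_smul_left] at h
  have h' : sf e z = 0 := (mul_eq_zero.mp h).resolve_left hc
  apply eq_of_act
  intro x
  rw [act_eich a (by rw [sf_smul_left]; exact h),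
    act_eich _ (by rw [sf_smul_right, h', mul_zero])]
  simp only [sf_smul_left]
  module

theorem eich_shift {e z : Vm} (a r : F) (h : sf e z = 0) :
    eich e (z + r • e) a = eich e z (a + 2 * r) := by
  have h2 : sf e (z + r • e) = 0 := by
    rw [sf_add_right, sf_smul_right, show sf e e = 0 from form_self e, h]; ring
  apply eq_of_act
  intro x
  rw [act_eich a h2, act_eich _ h]
  simp only [sf_add_left, sf_smul_left]
  module

/-! ### The standard pair -/

/-- The first vector of the pair at `i`. -/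
def se (i : Fin m) : Vm := Pi.single (.inr i) 1

/-- The second vector of the pair at `i`. -/
def sff (i : Fin m) : Vm := Pi.single (.inl i) 1

theorem sf_se_left (i : Fin m) (v : Vm) : sf (se i) v = v (.inl i) := by
  simp [sf, form_eq, se, Pi.single_apply]

theorem sf_sff_right (i : Fin m) (v : Vm) : sf v (sff i) = v (.inr i) := by
  simp [sf, form_eq, sff, Pi.single_apply]

theorem sf_se_sff (i : Fin m) : sf (se i : Vm) (sff i) = 1 := by
  rw [sf_se_left, sff, Pi.single_eq_same]

theorem sf_sff_se (i : Fin m) : sf (sff i : Vm) (se i) = -1 := by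
  rw [sf, form_swap, ← sf, sf_se_sff]

theorem se_ne_zero (i : Fin m) : (se i : Vm) ≠ 0 := fun h => by
  have := congrFun h (.inr i)
  simp [se] at this

theorem sff_ne_zero (i : Fin m) : (sff i : Vm) ≠ 0 := fun h => by
  have := congrFun h (.inl i)
  simp [sff] at this

/-- The complement of the pair at `i`. -/
def Wsub (i : Fin m) : Submodule F Vm where
  carrier := {z | z (.inl i) = 0 ∧ z (.inr i) = 0}
  add_mem' h h' := ⟨by simp [h.1, h'.1], by simp [h.2, h'.2]⟩
  zero_mem' := ⟨rfl, rfl⟩
  smul_mem' c z h := ⟨by simp [h.1], by simp [h.2]⟩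

theorem W_perp {i : Fin m} {z : Vm} (hz : z ∈ Wsub i) :
    sf (se i) z = 0 ∧ sf z (se i) = 0 ∧ sf z (sff i) = 0 ∧ sf (sff i) z = 0 := by
  have h1 : sf (se i) z = 0 := by rw [sf_se_left]; exact hz.1
  have h2 : sf z (sff i) = 0 := by rw [sf_sff_right]; exact hz.2
  refine ⟨h1, ?_, h2, ?_⟩
  · rw [sf, form_swap, ← sf, h1, neg_zero]
  · rw [sf, form_swap, ← sf, h2, neg_zero]

theorem mem_W_of {i : Fin m} {z : Vm} (h1 : sf (se i) z = 0) (h2 : sf z (sff i) = 0) :
    z ∈ Wsub i := ⟨(sf_se_left i z).symm.trans h1, (sf_sff_right i z).symm.trans h2⟩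

/-- The projection to the complement. -/
def projW (i : Fin m) (v : Vm) : Vm := v - sf v (sff i) • se i - sf (se i) v • sff i

theorem projW_mem (i : Fin m) (v : Vm) : projW i v ∈ Wsub i := by
  refine mem_W_of ?_ ?_
  · simp only [projW, sf_sub_right, sf_smul_right, sf_se_sff,
      show sf (se i : Vm) (se i) = 0 from form_self _]
    ring
  · simp only [projW, sf_sub_left, sf_smul_left, sf_se_sff,
      show sf (sff i : Vm) (sff i) = 0 from form_self _]
    ring

theorem eq_projW_add (i : Fin m) (v : Vm) :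
    v = sf v (sff i) • se i + sf (se i) v • sff i + projW i v := by
  rw [projW]; abel

theorem projW_of_mem {i : Fin m} {z : Vm} (hz : z ∈ Wsub i) : projW i z = z := by
  rw [projW, (W_perp hz).2.2.1, (W_perp hz).1, zero_smul, zero_smul, sub_zero, sub_zero]

theorem projW_add (i : Fin m) (u v : Vm) : projW i (u + v) = projW i u + projW i v := by
  simp only [projW, sf_add_left, sf_add_right]; module

theorem projW_smul (i : Fin m) (c : F) (v : Vm) : projW i (c • v) = c • projW i v := by
  simp only [projW, sf_smul_left, sf_smul_right]; module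

/-- The form is non-degenerate on the complement. -/
theorem exists_W_ne {i : Fin m} {z : Vm} (hz : z ∈ Wsub i) (hz0 : z ≠ 0) :
    ∃ x ∈ Wsub i, sf z x ≠ 0 := by
  obtain ⟨x, hx⟩ := Cfsg.Agent.Lead.Symp.exists_form_ne hz0
  refine ⟨projW i x, projW_mem i x, ?_⟩
  simpa [projW, sf_sub_right, sf_smul_right, (W_perp hz).2.1, (W_perp hz).2.2.1] using hx

theorem exists_W_pair {m : ℕ} (hm : 2 ≤ m) (i : Fin m) :
    ∃ u w : Fin m ⊕ Fin m → F, u ∈ Wsub i ∧ w ∈ Wsub i ∧ sf u w = 1 := by
  have : Nontrivial (Fin m) := Fin.nontrivial_iff_two_le.mpr hm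
  obtain ⟨k, hk⟩ := exists_ne i
  refine ⟨se k, sff k, ⟨?_, ?_⟩, ⟨?_, ?_⟩, sf_se_sff k⟩ <;> simp [se, sff, Ne.symm hk]

theorem eich_inj {i : Fin m} {z w : Vm} {a b : F} (hz : z ∈ Wsub i) (hw : w ∈ Wsub i)
    (heq : eich (se i) z a = eich (se i) w b) : z = w ∧ a = b := by
  have h1 := congrArg (fun g => act g (sff i)) heq
  simp only [act_eich _ (W_perp hz).1, act_eich _ (W_perp hw).1, sf_se_sff, (W_perp hz).2.2.1,
    (W_perp hw).2.2.1, one_smul, mul_one, add_zero] at h1
  rw [add_assoc, add_assoc, add_right_inj] at h1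
  have h2 := congrArg (fun v => sf v (sff i)) h1
  simp only [sf_add_left, sf_smul_left, (W_perp hz).2.2.1, (W_perp hw).2.2.1, sf_se_sff, zero_add,
    mul_one] at h2
  subst h2
  exact ⟨add_right_cancel h1, rfl⟩

theorem eq_one_of_fix {i : Fin m} {g : Gm} (he : act g (se i) = se i) (hf : act g (sff i) = sff i)
    (hW : ∀ z ∈ Wsub i, act g z = z) : g = 1 := by
  apply eq_of_act
  intro v
  rw [act_one]
  conv_lhs => rw [eq_projW_add i v]
  rw [act_add, act_add, act_smul, act_smul, he, hf, hW _ (projW_mem i v), ← eq_projW_add]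

theorem act_mem_W {i : Fin m} {h : Gm} {lam ν : F} (he : act h (se i) = lam • se i)
    (hf : act h (sff i) = ν • sff i) {z : Vm} (hz : z ∈ Wsub i) : act h z ∈ Wsub i := by
  have h1 := sf_act h (se i) (sff i)
  rw [he, hf, sf_smul_left, sf_smul_right, sf_se_sff, mul_one] at h1
  refine mem_W_of ?_ ?_
  · have h2 := sf_act h (se i) z
    rw [he, sf_smul_left, (W_perp hz).1] at h2
    exact (mul_eq_zero.mp h2).resolve_left (left_ne_zero_of_mul_eq_one h1)
  · have h2 := sf_act h z (sff i)
    rw [hf, sf_smul_right, (W_perp hz).2.2.1] at h2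
    exact (mul_eq_zero.mp h2).resolve_left (right_ne_zero_of_mul_eq_one h1)

/-- An element fixing `e` is an Eichler element times one fixing the pair. -/
theorem stab_decomp {i : Fin m} {g : Gm} (he : act g (se i) = se i) :
    ∃ z a, z ∈ Wsub i ∧ ∃ h : Gm, g = eich (se i) z a * h ∧ act h (se i) = se i ∧
      act h (sff i) = sff i ∧ ∀ w ∈ Wsub i, act h w ∈ Wsub i := by
  set u := act g (sff i) with hu
  set z := projW i u with hz
  have hzW : z ∈ Wsub i := projW_mem i u
  have hev : sf (se i) u = 1 := by rw [hu, ← he, sf_act, sf_se_sff]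
  have hueq : u = sf u (sff i) • se i + sff i + z := by
    conv_lhs => rw [eq_projW_add i u, hev, one_smul]
  have hez := (W_perp hzW).1
  set E := eich (se i) z (sf u (sff i)) with hE
  have hge : g = E * (E⁻¹ * g) := by rw [mul_inv_cancel_left]
  have hhe : act (E⁻¹ * g) (se i) = se i := by
    apply act_injective E
    rw [← act_mul, ← hge, he, hE, act_eich_self _ hez]
  have hhf : act (E⁻¹ * g) (sff i) = sff i := by
    apply act_injective E
    rw [← act_mul, ← hge, hE, act_eich _ hez, ← hu, sf_se_sff, (W_perp hzW).2.2.1]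
    conv_lhs => rw [hueq]
    module
  exact ⟨z, _, hzW, _, hge, hhe, hhf, fun w hw =>
    act_mem_W (lam := 1) (ν := 1) (by rw [hhe, one_smul]) (by rw [hhf, one_smul]) hw⟩

/-- An element fixing `e` and trivial on `e^⊥/e` is an Eichler element. -/
theorem eich_of_trivial {i : Fin m} {g : Gm} (he : act g (se i) = se i)
    (hW : ∀ w ∈ Wsub i, ∃ c : F, act g w = w + c • se i) :
    ∃ z a, z ∈ Wsub i ∧ g = eich (se i) z a := by
  obtain ⟨z, a, hz, h, rfl, hhe, hhf, hhW⟩ := stab_decomp he
  refine ⟨z, a, hz, ?_⟩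
  have : h = 1 := by
    refine eq_one_of_fix hhe hhf fun w hw => ?_
    obtain ⟨c, hc⟩ := hW w hw
    rw [act_mul, act_eich a (W_perp hz).1, (W_perp (hhW w hw)).1, zero_smul, add_zero, mul_zero,
      zero_add] at hc
    have h1 := congrArg (projW i) hc
    rw [projW_add, projW_add, projW_smul, projW_smul, projW_of_mem (hhW w hw),
      projW_of_mem hw] at h1
    have h2 : projW i (se i : Vm) = 0 := by
      simp [projW, sf_se_sff, show sf (se i : Vm) (se i) = 0 from form_self _]
    simpa [h2] using h1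
  rw [this, mul_one]

/-! ### Automorphisms -/

/-- The projection to `PSp_{2m}`. -/
abbrev ps : Gm →* Pm := QuotientGroup.mk' (Subgroup.center Gm)

theorem ps_surjective : Function.Surjective (ps : Gm → Pm) := QuotientGroup.mk'_surjective _

theorem ps_eq_one {g : Gm} : (ps g : Pm) = 1 ↔ g ∈ Subgroup.center Gm :=
  QuotientGroup.eq_one_iff g

theorem ext_val {x y : Gm} (h : x.1 = y.1) : x = y := Subtype.ext h

/-- The symplectic group inside the similitudes. -/
noncomputable def toS : Gm →* Hm :=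
  MonoidHom.codRestrict
    ({ toFun := fun x => ⟨x.1, (x⁻¹).1, congrArg Subtype.val (mul_inv_cancel x),
        congrArg Subtype.val (inv_mul_cancel x)⟩
       map_one' := Units.ext rfl
       map_mul' := fun x y => Units.ext rfl } : Gm →* GL (Fin m ⊕ Fin m) F) _
    fun x => ⟨1, fun u v => (form_preserved x.2 u v).trans (one_mul (sf u v)).symm⟩

theorem toS_val (x : Gm) : ((toS x : Hm) : GL (Fin m ⊕ Fin m) F).val = x.1 := rfl

theorem conjS_aux (g : Hm) (x : Gm) :
    ∃ y : Gm, y.1 = g.1.val * x.1 * (g.1⁻¹ : GL (Fin m ⊕ Fin m) F).val := by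
  obtain ⟨c, hc⟩ := g.2
  refine ⟨⟨_, mem_of_form fun u v => ?_⟩, rfl⟩
  rw [← Matrix.mulVec_mulVec, ← Matrix.mulVec_mulVec, ← Matrix.mulVec_mulVec,
    ← Matrix.mulVec_mulVec]
  have h1 : ∀ w : Vm, g.1.val *ᵥ ((g.1⁻¹ : GL (Fin m ⊕ Fin m) F).val *ᵥ w) = w := fun w => by
    rw [Matrix.mulVec_mulVec, Units.mul_inv, Matrix.one_mulVec]
  conv_rhs => rw [← h1 u, ← h1 v]
  simp only [sf]
  rw [hc, form_preserved x.2, hc]

/-- Conjugation by similitudes. -/
noncomputable def conjS : Hm →* MulAut Gm where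
  toFun g :=
    { toFun := fun x => (conjS_aux g x).choose
      invFun := fun x => (conjS_aux g⁻¹ x).choose
      left_inv := fun x => ext_val (by
        rw [(conjS_aux g⁻¹ _).choose_spec, (conjS_aux g x).choose_spec]
        simp [Matrix.mul_assoc])
      right_inv := fun x => ext_val (by
        rw [(conjS_aux g _).choose_spec, (conjS_aux g⁻¹ x).choose_spec]
        simp [Matrix.mul_assoc])
      map_mul' := fun x y => ext_val (by
        change _ = (conjS_aux g x).choose.1 * (conjS_aux g y).choose.1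
        rw [(conjS_aux g _).choose_spec, (conjS_aux g x).choose_spec,
          (conjS_aux g y).choose_spec]
        simp [Matrix.mul_assoc]) }
  map_one' := MulEquiv.ext fun x => ext_val (by
    change (conjS_aux 1 x).choose.1 = x.1
    rw [(conjS_aux 1 x).choose_spec]; simp)
  map_mul' g h := MulEquiv.ext fun x => ext_val (by
    change (conjS_aux (g * h) x).choose.1 = (conjS_aux g (conjS_aux h x).choose).choose.1
    rw [(conjS_aux _ _).choose_spec, (conjS_aux g _).choose_spec, (conjS_aux h x).choose_spec]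
    simp [Matrix.mul_assoc])

theorem conjS_val (g : Hm) (x : Gm) :
    (conjS g x).1 = g.1.val * x.1 * (g.1⁻¹ : GL (Fin m ⊕ Fin m) F).val :=
  (conjS_aux g x).choose_spec

theorem sf_comp (σ : F ≃+* F) (u v : Vm) : sf (σ ∘ u) (σ ∘ v) = σ (sf u v) := by
  simp [sf, form_eq, map_sum]

theorem map_mulVec_comp (σ : F ≃+* F) (A : Mm) (v : Vm) :
    A.map σ *ᵥ (σ ∘ v) = σ ∘ (A *ᵥ v) := by
  funext k
  exact (RingHom.map_mulVec (σ : F →+* F) A v k).symm

theorem map_mul_mat (σ : F ≃+* F) (A B : Mm) : (A * B).map σ = A.map σ * B.map σ :=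
  Matrix.map_mul (f := (σ : F →+* F))

/-- Field automorphisms of `Sp_{2m}`. -/
noncomputable def fieldS : (F ≃+* F) →* MulAut Gm where
  toFun σ :=
    { toFun := fun x => ⟨x.1.map σ, SymplecticGroup.map_mem x.2 σ⟩
      invFun := fun x => ⟨x.1.map σ.symm, SymplecticGroup.map_mem x.2 σ.symm⟩
      left_inv := fun x => ext_val (by ext i k; simp)
      right_inv := fun x => ext_val (by ext i k; simp)
      map_mul' := fun x y => ext_val (map_mul_mat σ x.1 y.1) }
  map_one' := MulEquiv.ext fun x => ext_val (by ext i k; rfl)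
  map_mul' g h := MulEquiv.ext fun x => ext_val (by ext i k; rfl)

theorem fieldS_val (σ : F ≃+* F) (x : Gm) : (fieldS σ x).1 = x.1.map σ := rfl

/-- Automorphisms of `Sp_{2m}` descend. -/
noncomputable def descend : MulAut Gm →* MulAut Pm where
  toFun e := QuotientGroup.congr _ _ e
    (Subgroup.characteristic_iff_map_eq.mp inferInstance e)
  map_one' := by
    ext g
    obtain ⟨A, rfl⟩ := ps_surjective g
    rfl
  map_mul' e e' := by
    ext g
    obtain ⟨A, rfl⟩ := ps_surjective g
    rfl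

/-- Conjugation by similitudes on `PSp_{2m}`. -/
noncomputable def cS : Hm →* MulAut Pm := descend.comp conjS

/-- Field automorphisms of `PSp_{2m}`. -/
noncomputable def fS : (F ≃+* F) →* MulAut Pm := descend.comp fieldS

theorem cS_apply (g : Hm) (x : Gm) : cS g (ps x : Pm) = ps (conjS g x) := rfl
theorem fS_apply (σ : F ≃+* F) (x : Gm) : fS σ (ps x : Pm) = ps (fieldS σ x) := rfl

theorem cS_toS (x : Gm) : cS (toS x) = MulAut.conj (ps x : Pm) := by
  ext y
  obtain ⟨w, rfl⟩ := ps_surjective y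
  rw [cS_apply, MulAut.conj_apply, ← map_inv, ← map_mul, ← map_mul]
  congr 1
  apply ext_val
  rw [conjS_val, toS_val]
  rfl

theorem map_mem_GSp (σ : F ≃+* F) (g : Hm) :
    Units.map (σ.mapMatrix : Mm ≃+* Mm).toMonoidHom g.1 ∈ Hm := by
  obtain ⟨c, hc⟩ := g.2
  refine ⟨Units.map (σ : F →* F) c, fun u v => ?_⟩
  have hu : u = σ ∘ (σ.symm ∘ u) := by funext k; simp
  have hv : v = σ ∘ (σ.symm ∘ v) := by funext k; simp
  change sf (g.1.val.map σ *ᵥ u) (g.1.val.map σ *ᵥ v) = σ (c : F) * sf u v
  rw [hu, hv, map_mulVec_comp, map_mulVec_comp, sf_comp, sf_comp, ← map_mul]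
  exact congrArg σ (hc _ _)

/-- A field automorphism applied to a similitude. -/
noncomputable def sField (σ : F ≃+* F) : Hm →* Hm :=
  ((Units.map (σ.mapMatrix : Mm ≃+* Mm).toMonoidHom).comp (Cfsg.GSp m F).subtype).codRestrict _
    (map_mem_GSp σ)

theorem sField_val (σ : F ≃+* F) (g : Hm) : (sField σ g).1.val = g.1.val.map σ := rfl

theorem fS_cS (σ : F ≃+* F) (g : Hm) : (fS σ : MulAut Pm) * cS g = cS (sField σ g) * fS σ := by
  ext y
  obtain ⟨x, rfl⟩ := ps_surjective y
  simp only [MulAut.mul_apply, cS_apply, fS_apply]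
  congr 1
  apply ext_val
  rw [fieldS_val, conjS_val, conjS_val, fieldS_val, map_mul_mat, map_mul_mat, sField_val]
  congr 1

theorem decomp_mul (g g' : Hm) (σ σ' : F ≃+* F) :
    (cS g * fS σ) * (cS g' * fS σ') = (cS (g * sField σ g') * fS (σ * σ') : MulAut Pm) := by
  rw [mul_assoc (cS g), ← mul_assoc (fS σ), fS_cS, map_mul, map_mul]
  simp only [mul_assoc]

theorem induced_iff (g : GL (Fin m ⊕ Fin m) F) (hg : g ∈ Hm) (σ : F ≃+* F) (β : MulAut Pm) :
    Cfsg.IsInducedBySemilinearPSp g σ β ↔ β = cS ⟨g, hg⟩ * fS σ := by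
  constructor
  · intro h
    ext y
    obtain ⟨x, rfl⟩ := ps_surjective y
    exact h x (conjS ⟨g, hg⟩ (fieldS σ x)) (by rw [conjS_val, fieldS_val])
  · rintro rfl s s' hs
    change ps (conjS ⟨g, hg⟩ (fieldS σ s)) = ps s'
    congr 1
    apply ext_val
    rw [conjS_val, fieldS_val, hs]

theorem stdField_iff (σ : F ≃+* F) (β : MulAut Pm) : Cfsg.IsStdFieldAutPSp σ β ↔ β = fS σ := by
  constructor
  · intro h
    ext y
    obtain ⟨x, rfl⟩ := ps_surjective y
    exact h x (fieldS σ x) (fieldS_val σ x)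
  · rintro rfl s s' hs
    change ps (fieldS σ s) = ps s'
    congr 1
    apply ext_val
    rw [fieldS_val, hs]

theorem innerDiag_iff (β : MulAut Pm) : Cfsg.IsInnerDiagonalAutPSp β ↔ ∃ g, β = cS g := by
  constructor
  · rintro ⟨g, hg, h⟩
    refine ⟨⟨g, hg⟩, ?_⟩
    rw [(induced_iff g hg _ β).mp h, show (RingEquiv.refl F) = (1 : F ≃+* F) from rfl, map_one,
      mul_one]
  · rintro ⟨g, rfl⟩
    refine ⟨g.1, g.2, (induced_iff g.1 g.2 _ _).mpr ?_⟩
    rw [show (RingEquiv.refl F) = (1 : F ≃+* F) from rfl, map_one, mul_one]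

theorem inndiag_eq : Cfsg.inndiagPSp m F = (cS (m := m) (F := F)).range := by
  apply le_antisymm
  · rw [Cfsg.inndiagPSp, Cfsg.autSubgroupOf, Subgroup.closure_le]
    intro β hβ
    obtain ⟨g, rfl⟩ := (innerDiag_iff β).mp hβ
    exact ⟨g, rfl⟩
  · rintro _ ⟨g, rfl⟩
    exact Subgroup.subset_closure ((innerDiag_iff _).mpr ⟨g, rfl⟩)

/-- The semilinear action. -/
def sact (g : Hm) (σ : F ≃+* F) (v : Vm) : Vm := g.1.val *ᵥ (σ ∘ v)

theorem sact_add (g : Hm) (σ : F ≃+* F) (u v : Vm) :
    sact g σ (u + v) = sact g σ u + sact g σ v := by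
  rw [sact, sact, sact, ← Matrix.mulVec_add]
  congr 1
  funext k
  simp

theorem sact_smul (g : Hm) (σ : F ≃+* F) (c : F) (v : Vm) :
    sact g σ (c • v) = σ c • sact g σ v := by
  rw [sact, sact, ← Matrix.mulVec_smul]
  congr 1
  funext k
  simp

theorem sact_zero (g : Hm) (σ : F ≃+* F) : sact g σ (0 : Vm) = 0 := by
  rw [sact, show σ ∘ (0 : Vm) = 0 from funext fun k => map_zero σ, Matrix.mulVec_zero]

theorem sact_injective (g : Hm) (σ : F ≃+* F) : Function.Injective (sact g σ) := by
  intro u v h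
  have h1 := congrArg (fun x => (g.1⁻¹ : GL (Fin m ⊕ Fin m) F).val *ᵥ x) h
  simp only [sact, Matrix.mulVec_mulVec, Units.inv_mul, Matrix.one_mulVec] at h1
  funext k
  exact σ.injective (congrFun h1 k)

theorem sf_sact {g : Hm} {σ : F ≃+* F} {c : F}
    (hc : ∀ u v, sf (g.1.val *ᵥ u) (g.1.val *ᵥ v) = c * sf u v) (u v : Vm) :
    sf (sact g σ u) (sact g σ v) = c * σ (sf u v) := by
  rw [sact, sact, hc, sf_comp]

theorem act_conjS_fieldS (g : Hm) (σ : F ≃+* F) (x : Gm) (v : Vm) :
    act (conjS g (fieldS σ x)) (sact g σ v) = sact g σ (act x v) := by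
  rw [act, conjS_val, fieldS_val, sact, sact, Matrix.mulVec_mulVec, Matrix.mul_assoc,
    Units.inv_mul, Matrix.mul_one, ← Matrix.mulVec_mulVec, map_mulVec_comp]
  rfl

theorem aut_eich [Finite F] {g : Hm} {σ : F ≃+* F} {c : F} (hc0 : c ≠ 0)
    (hc : ∀ u v, sf (g.1.val *ᵥ u) (g.1.val *ᵥ v) = c * sf u v) {e z : Vm} (a : F)
    (h : sf e z = 0) :
    (cS g * fS σ : MulAut Pm) (ps (eich e z a)) =
      ps (eich (sact g σ e) (c⁻¹ • sact g σ z) (c⁻¹ * σ a)) := by
  rw [MulAut.mul_apply, fS_apply, cS_apply]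
  congr 1
  apply eq_of_act
  intro x
  obtain ⟨v, rfl⟩ : ∃ v, sact g σ v = x :=
    (Finite.injective_iff_surjective.mp (sact_injective g σ)) x
  rw [act_conjS_fieldS, act_eich a h,
    act_eich _ (by rw [sf_smul_right, sf_sact hc, h, map_zero, mul_zero, mul_zero])]
  simp only [sact_add, sact_smul, sf_smul_left, sf_sact hc, map_add, map_mul]
  match_scalars <;> field_simp

end Cfsg.Agent.Small.PSpn
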