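import Mathlib
import Cfsg.Agent.Lib.Small.PSpn.Basic

/-!
The points of the symplectic polar space inside `PSp_{2m}(q)`, `q` odd: centres of Sylow
`p`-subgroups, and the Eichler group as largest normal `p`-subgroup of a point stabiliser.
-/

set_option autoImplicit false
set_option linter.unusedSectionVars false

namespace Cfsg.Agent.Small.PSpn

open Matrix
open scoped Pointwise
open Cfsg.Agent.Lead.Symp (form_self form_swap)

variable {F : Type*} [Field F] [Fintype F] {m : ℕ}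

local notation "Vm" => Fin m ⊕ Fin m → F
local notation "Gm" => Matrix.symplecticGroup (Fin m) F
local notation "Pm" => Cfsg.PSp m F

theorem exists_partner {v : Vm} (hv : v ≠ 0) : ∃ w : Vm, sf v w = 1 := by
  obtain ⟨w, hw⟩ := Cfsg.Agent.Lead.Symp.exists_form_ne hv
  exact ⟨(sf v w)⁻¹ • w, by rw [sf_smul_right, inv_mul_cancel₀ hw]⟩

theorem exists_act_eq {v w : Vm} (hv : v ≠ 0) (hw : w ≠ 0) : ∃ g : Gm, act g v = w := by
  obtain ⟨A, -, hA⟩ := Cfsg.Agent.Lead.Symp.exists_move hv hw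
  exact ⟨A, hA⟩

theorem act_ne_zero {v : Vm} (hv : v ≠ 0) (g : Gm) : act g v ≠ 0 := fun h =>
  hv (act_injective g (h.trans (act_zero g).symm))

section PGroup

variable {p : ℕ} [Fact p.Prime] [CharP F p]

theorem exists_fixed {R : Type*} [Group R] (hR : IsPGroup p R) (U : AddSubgroup Vm)
    (ρ : R → Vm → Vm) (hmaps : ∀ r, ∀ u ∈ U, ρ r u ∈ U) (h1 : ∀ u ∈ U, ρ 1 u = u)
    (hmul : ∀ r s, ∀ u ∈ U, ρ (r * s) u = ρ r (ρ s u)) (h0 : ∀ r, ρ r 0 = 0)
    (hU : ∃ u ∈ U, u ≠ 0) : ∃ u ∈ U, u ≠ 0 ∧ ∀ r, ρ r u = u := by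
  let : MulAction R U :=
    { smul := fun r u => ⟨ρ r u.1, hmaps r u.1 u.2⟩
      one_smul := fun u => Subtype.ext (h1 u.1 u.2)
      mul_smul := fun r s u => Subtype.ext (hmul r s u.1 u.2) }
  obtain ⟨u, hu, hu0⟩ := hU
  have hdvd : p ∣ Nat.card U := by
    have hp : addOrderOf (⟨u, hu⟩ : U) = p := by
      apply addOrderOf_eq_prime
      · apply Subtype.ext
        change p • u = 0
        funext k
        simp [CharP.cast_eq_zero]
      · exact fun h => hu0 (congrArg Subtype.val h)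
    exact hp ▸ addOrderOf_dvd_natCard _
  obtain ⟨b, hb, hb0⟩ := hR.exists_fixed_point_of_prime_dvd_card_of_fixed_point U hdvd
    (a := (0 : U)) (fun r => Subtype.ext (h0 r))
  exact ⟨b.1, b.2, fun h => hb0 (Subtype.ext h.symm), fun r => congrArg Subtype.val (hb r)⟩

theorem exists_fixed_point (hm : 1 ≤ m) (S : Subgroup Gm) (hS : IsPGroup p S) :
    ∃ e : Vm, e ≠ 0 ∧ ∀ s ∈ S, act s e = e := by
  obtain ⟨u, -, hu0, hfix⟩ := exists_fixed hS (⊤ : AddSubgroup Vm) (fun s v => act s.1 v)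
    (fun _ _ _ => trivial) (fun u _ => act_one u) (fun r s u _ => act_mul r.1 s.1 u)
    (fun r => act_zero r.1) ⟨se ⟨0, hm⟩, trivial, se_ne_zero _⟩
  exact ⟨u, hu0, fun s hs => hfix ⟨s, hs⟩⟩

/-- The Eichler subgroup at a vector. -/
noncomputable def Qg (e : Vm) : Subgroup Gm where
  carrier := {g | ∃ z a, sf e z = 0 ∧ g = eich e z a}
  one_mem' := ⟨0, 0, sf_zero_right e, (eich_zero_zero e).symm⟩
  mul_mem' := by
    rintro _ _ ⟨z, a, h, rfl⟩ ⟨w, b, h', rfl⟩
    exact ⟨_, _, perp_add h h', eich_mul a b h h'⟩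
  inv_mem' := by
    rintro _ ⟨z, a, h, rfl⟩
    have h' : sf e (-z) = 0 := by rw [← neg_one_smul F z, sf_smul_right, h, mul_zero]
    refine ⟨-z, -a, h', inv_eq_of_mul_eq_one_right ?_⟩
    rw [eich_mul a (-a) h h', add_neg_cancel, add_neg_cancel, zero_add,
      show sf z (-z) = 0 by
        rw [← neg_one_smul F z, sf_smul_right, show sf z z = 0 from form_self z, mul_zero],
      eich_zero_zero]

theorem eich_zero_pow (e : Vm) (t : F) : ∀ k : ℕ, eich e 0 t ^ k = eich e 0 ((k : F) * t)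
  | 0 => by rw [pow_zero, Nat.cast_zero, zero_mul, eich_zero_zero]
  | k + 1 => by
    rw [pow_succ, eich_zero_pow e t k, eich_mul _ _ (sf_zero_right e) (sf_zero_right e),
      sf_zero_left, add_zero, add_zero, Nat.cast_succ, add_mul, one_mul]

theorem eich_pow {e z : Vm} (a : F) (h : sf e z = 0) :
    ∀ k : ℕ, ∃ b, sf e (k • z) = 0 ∧ eich e z a ^ k = eich e (k • z) b
  | 0 => ⟨0, by rw [zero_smul, sf_zero_right], by rw [pow_zero, zero_smul, eich_zero_zero]⟩
  | k + 1 => by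
    obtain ⟨b, hb, hk⟩ := eich_pow a h k
    refine ⟨b + a + sf (k • z) z, ?_, ?_⟩ <;> rw [succ_nsmul]
    · exact perp_add hb h
    · rw [pow_succ, hk, eich_mul b a hb h]

theorem eich_pow_p2 {e z : Vm} (a : F) (h : sf e z = 0) : eich e z a ^ (p ^ 2) = 1 := by
  obtain ⟨b, -, hpow⟩ := eich_pow a h p
  have hz : p • z = 0 := by
    funext k
    simp [CharP.cast_eq_zero]
  rw [hz] at hpow
  rw [pow_two, pow_mul, hpow, eich_zero_pow, CharP.cast_eq_zero, zero_mul, eich_zero_zero]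

theorem isPGroup_Qg (e : Vm) : IsPGroup p (Qg e) := by
  rintro ⟨_, z, a, h, rfl⟩
  exact ⟨2, Subtype.ext (eich_pow_p2 a h)⟩

theorem fixes_Qg {e : Vm} {g : Gm} (hg : g ∈ Qg e) : act g e = e := by
  obtain ⟨z, a, h, rfl⟩ := hg
  exact act_eich_self a h

theorem Qg_le_sylow (S : Sylow p Gm) {e : Vm} (hS : ∀ s ∈ S, act s e = e) :
    Qg e ≤ (S : Subgroup Gm) := by
  have key : ∀ s : Gm, act s e = e → ∀ x ∈ Qg e, s * x * s⁻¹ ∈ Qg e := by
    rintro s hs _ ⟨z, a, h, rfl⟩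
    refine ⟨act s z, a, ?_, by rw [eich_conj s a h, hs]⟩
    rw [← hs, sf_act]
    exact h
  have hn : (S : Subgroup Gm) ≤ Subgroup.normalizer (Qg e : Set Gm) := by
    intro s hs
    rw [Subgroup.mem_normalizer_iff]
    intro x
    refine ⟨key s (hS s hs) x, fun h => ?_⟩
    have h' := key s⁻¹ (hS _ (inv_mem hs)) _ h
    group at h'
    exact h'
  exact sup_eq_left.mp (S.3 (IsPGroup.to_sup_of_normal_right' S.2 (isPGroup_Qg e) hn)
    le_sup_left)

variable (hm : 1 ≤ m) (h2 : (2 : F) ≠ 0)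

include hm in
/-- The elements fixing `e` and centralising its Eichler subgroup lie in it. -/
theorem eq_eich_of_commute {e : Vm} (he : e ≠ 0) {x : Gm} (hxe : act x e = e)
    (hx : ∀ y ∈ Qg e, x * y = y * x) : x ∈ Qg e := by
  let i : Fin m := ⟨0, hm⟩
  obtain ⟨g, hg⟩ := exists_act_eq (se_ne_zero (F := F) i) he
  suffices h : ∀ x : Gm, act x (se i) = se i → (∀ y ∈ Qg (se i), x * y = y * x) →
      x ∈ Qg (se i) by
    obtain ⟨z, a, hz, h⟩ := h (g⁻¹ * x * g)
      (by rw [act_mul, act_mul, hg, hxe, ← hg, act_inv_act]) (by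
      rintro _ ⟨z, a, hz, rfl⟩
      have h1 : g * eich (se i) z a * g⁻¹ ∈ Qg e :=
        ⟨act g z, a, by rw [← hg, sf_act]; exact hz, by rw [eich_conj g a hz, hg]⟩
      have h3 := hx _ h1
      calc g⁻¹ * x * g * eich (se i) z a
          = g⁻¹ * (x * (g * eich (se i) z a * g⁻¹)) * g := by group
        _ = g⁻¹ * (g * eich (se i) z a * g⁻¹ * x) * g := by rw [h3]
        _ = _ := by group)
    refine ⟨act g z, a, by rw [← hg, sf_act]; exact hz, ?_⟩
    have h3 : x = g * (g⁻¹ * x * g) * g⁻¹ := by group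
    rw [h3, h, eich_conj g a hz, hg]
  intro x hxe hx
  have htriv : ∀ w ∈ Wsub i, ∃ c : F, act x w = w + c • se i := by
    intro w hw
    have hb : sf (se i) (act x w) = 0 := by rw [← hxe, sf_act]; exact (W_perp hw).1
    have hQ := eich_conj x (0 : F) (W_perp hw).1
    rw [hxe, hx _ ⟨w, 0, (W_perp hw).1, rfl⟩, mul_inv_cancel_right] at hQ
    have h1 := congrArg (fun y => act y (sff i)) hQ.symm
    simp only [act_eich _ (W_perp hw).1, act_eich _ hb, sf_se_sff, one_smul, (W_perp hw).2.2.1,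
      zero_mul, zero_add, add_zero, zero_smul] at h1
    refine ⟨-sf (act x w) (sff i), ?_⟩
    rw [add_assoc, add_right_inj] at h1
    rw [← sub_eq_zero]
    linear_combination (norm := module) h1
  obtain ⟨z, a, hzW, rfl⟩ := eich_of_trivial hxe htriv
  exact ⟨z, a, (W_perp hzW).1, rfl⟩

include hm h2 in
/-- In odd characteristic the centraliser of the Eichler subgroup consists of transvections. -/
theorem eq_trans_of_commute {e : Vm} (he : e ≠ 0) {x : Gm} (hxe : act x e = e)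
    (hx : ∀ y ∈ Qg e, x * y = y * x) : ∃ t : F, x = eich e 0 t := by
  obtain ⟨z, a, hz, rfl⟩ := eq_eich_of_commute hm he hxe hx
  obtain ⟨f, hef⟩ := exists_partner he
  -- `z` is orthogonal to all of `e^⊥`, hence a multiple of `e`
  have hperp : ∀ w, sf e w = 0 → sf z w = 0 := by
    intro w hw
    have h1 := hx _ ⟨w, 0, hw, rfl⟩
    rw [eich_mul a 0 hz hw, eich_mul 0 a hw hz, add_comm w z] at h1
    have h3 := congrArg (fun y => act y f) h1
    simp only [act_eich _ (perp_add hz hw), hef, add_right_inj, mul_one] at h3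
    have h4 : (sf z w - sf w z) • e = 0 := by linear_combination (norm := module) h3
    rw [show sf w z = -sf z w from form_swap z w, sub_neg_eq_add, ← two_mul,
      smul_eq_zero] at h4
    exact (mul_eq_zero.mp (h4.resolve_right he)).resolve_left h2
  have hz' : z = (0 : Vm) + sf z f • e := by
    rw [zero_add]
    by_contra hne
    obtain ⟨y, hy⟩ := Cfsg.Agent.Lead.Symp.exists_form_ne (sub_ne_zero.mpr hne)
    have h1 := hperp (y - sf e y • f) (by rw [sf_sub_right, sf_smul_right, hef]; ring)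
    apply hy
    change sf (z - sf z f • e) y = 0
    rw [sf_sub_left, sf_smul_left]
    rw [sf_sub_right, sf_smul_right] at h1
    linear_combination h1
  refine ⟨a + 2 * sf z f, ?_⟩
  conv_lhs => rw [hz', eich_shift _ _ (sf_zero_right e)]

include hm h2 in
theorem sylow_center_elem (S : Sylow p Gm) {e : Vm} (he : e ≠ 0)
    (hS : ∀ s ∈ S, act s e = e) (x : Gm) :
    (x ∈ S ∧ ∀ y ∈ S, x * y = y * x) ↔ ∃ t : F, x = eich e 0 t := by
  constructor
  · rintro ⟨hxS, hx⟩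
    exact eq_trans_of_commute hm h2 he (hS x hxS) fun y hy => hx y (Qg_le_sylow S hS hy)
  · rintro ⟨t, rfl⟩
    refine ⟨Qg_le_sylow S hS ⟨0, t, sf_zero_right e, rfl⟩, fun y hy => ?_⟩
    have h1 := eich_conj y t (sf_zero_right e)
    rw [hS y hy, act_zero, mul_inv_eq_iff_eq_mul] at h1
    exact h1.symm

omit [Fintype F] in
theorem center_pfree {x : Gm} (hx : x ∈ Subgroup.center Gm) {k : ℕ} (hk : x ^ (p ^ k) = 1) :
    x = 1 := by
  obtain ⟨c, -, hxc⟩ := Cfsg.Agent.Small.sp_center_smul m x hx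
  apply Subtype.ext
  rcases Nat.eq_zero_or_pos m with rfl | hm
  · exact Subsingleton.elim _ _
  have h1 : c ^ p ^ k = 1 := by
    have h := congrArg (fun y : Gm => y.1 (.inl ⟨0, hm⟩) (.inl ⟨0, hm⟩)) hk
    simpa [SubmonoidClass.coe_pow, hxc, smul_pow] using h
  have h3 : (c - 1) ^ p ^ k = 0 := by rw [sub_pow_char_pow, one_pow, h1, sub_self]
  rw [hxc, sub_eq_zero.mp (eq_zero_of_pow_eq_zero h3), one_smul]
  rfl

/-- `p`-elements. -/
def PEl (p : ℕ) {G : Type*} [Group G] (x : G) : Prop := ∃ k : ℕ, x ^ (p ^ k) = 1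

theorem PEl_eich {e z : Vm} (a : F) (h : sf e z = 0) : PEl p (eich e z a) :=
  ⟨2, eich_pow_p2 a h⟩

theorem pElem_inj {x y : Gm} (hx : PEl p x) (hy : PEl p y) (h : (ps x : Pm) = ps y) : x = y := by
  set c := x⁻¹ * y with hc
  have hcZ : c ∈ Subgroup.center Gm :=
    ps_eq_one.mp (by rw [hc, map_mul, map_inv, h, inv_mul_cancel])
  obtain ⟨k, hk⟩ := hx
  obtain ⟨l, hl⟩ := hy
  have hxc : Commute x c := Subgroup.mem_center_iff.mp hcZ x
  have h1 : c = 1 := by
    refine center_pfree hcZ (k := k + l) ?_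
    have hy' : y = x * c := by rw [hc, mul_inv_cancel_left]
    have h2 : y ^ (p ^ (k + l)) = 1 := by rw [pow_add, mul_comm, pow_mul, hl, one_pow]
    have h3 : x ^ (p ^ (k + l)) = 1 := by rw [pow_add, pow_mul, hk, one_pow]
    rwa [hy', hxc.mul_pow, h3, one_mul] at h2
  exact inv_mul_eq_one.mp h1

theorem pElem_comm {x y : Gm} (hy : PEl p y)
    (h : (ps x : Pm) * ps y = ps y * ps x) : x * y = y * x := by
  obtain ⟨k, hk⟩ := hy
  have h1 : x * y * x⁻¹ = y := by
    refine pElem_inj ⟨k, ?_⟩ ⟨k, hk⟩ ?_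
    · rw [← MulAut.conj_apply, ← map_pow, hk, map_one]
    · rw [map_mul, map_mul, map_inv, h, mul_inv_cancel_right]
  exact mul_inv_eq_iff_eq_mul.mp h1

/-! ### The images in `PSp` -/

/-- The transvection group of a point, in `PSp`. -/
def Tb (e : Vm) : Set Pm := {x | ∃ t : F, x = ps (eich e 0 t)}

/-- The centre of a subgroup, as a set. -/
def cset {G : Type*} [Group G] (R : Subgroup G) : Set G :=
  {x | x ∈ R ∧ ∀ y ∈ R, x * y = y * x}

theorem mem_Tb (e : Vm) (t : F) : (ps (eich e 0 t) : Pm) ∈ Tb e := ⟨t, rfl⟩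

include hm h2 in
theorem cset_sylow_map (S : Sylow p Gm) {e : Vm} (he : e ≠ 0) (hS : ∀ s ∈ S, act s e = e) :
    cset ((S : Subgroup Gm).map (ps : Gm →* Pm)) = Tb e := by
  ext x
  constructor
  · rintro ⟨⟨s, hs, rfl⟩, hx⟩
    obtain ⟨t, rfl⟩ := (sylow_center_elem hm h2 S he hS s).mp ⟨hs, fun y hy => by
      obtain ⟨k, hk⟩ := S.2 ⟨y, hy⟩
      exact pElem_comm ⟨k, congrArg Subtype.val hk⟩ (hx _ ⟨y, hy, rfl⟩)⟩
    exact mem_Tb e t
  · rintro ⟨t, rfl⟩
    obtain ⟨h1, h3⟩ := (sylow_center_elem hm h2 S he hS _).mpr ⟨t, rfl⟩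
    refine ⟨⟨_, h1, rfl⟩, ?_⟩
    rintro _ ⟨y, hy, rfl⟩
    rw [← map_mul, ← map_mul, h3 y hy]

include hm h2 in
theorem cset_sylow (R : Sylow p Pm) : ∃ e : Vm, e ≠ 0 ∧ cset (R : Subgroup Pm) = Tb e := by
  obtain ⟨S, rfl⟩ := Sylow.mapSurjective_surjective ps_surjective p R
  obtain ⟨e, he, hfix⟩ := exists_fixed_point hm (S : Subgroup Gm) S.2
  exact ⟨e, he, by rw [Sylow.coe_mapSurjective]; exact cset_sylow_map hm h2 S he hfix⟩

include hm h2 in
theorem exists_sylow {e : Vm} (he : e ≠ 0) :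
    ∃ R : Sylow p Pm, cset (R : Subgroup Pm) = Tb e := by
  obtain ⟨S, -⟩ := (isPGroup_Qg e (p := p)).exists_le_sylow
  obtain ⟨e₁, he₁, hfix⟩ := exists_fixed_point hm (S : Subgroup Gm) S.2
  obtain ⟨g, hg⟩ := exists_act_eq he₁ he
  refine ⟨(g • S).mapSurjective ps_surjective, ?_⟩
  rw [Sylow.coe_mapSurjective]
  refine cset_sylow_map hm h2 (g • S) he ?_
  intro s hs
  rw [Sylow.smul_def] at hs
  replace hs : s ∈ MulAut.conj g • (S : Subgroup Gm) := hs
  rw [Subgroup.mem_pointwise_smul_iff_inv_smul_mem] at hs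
  have h1 := hfix _ hs
  simp only [MulAut.smul_def, MulAut.inv_apply, MulAut.conj_symm_apply] at h1
  rw [act_mul, act_mul, hg] at h1
  conv_rhs => rw [← hg, ← h1, act_act_inv]

include hm h2 in
/-- Automorphisms permute the transvection groups. -/
theorem exists_image (p : ℕ) [Fact p.Prime] [CharP F p] (α : MulAut Pm) {v : Vm} (hv : v ≠ 0) :
    ∃ w : Vm, w ≠ 0 ∧ α '' Tb v = Tb w := by
  obtain ⟨R, hR⟩ := exists_sylow hm h2 hv (p := p)
  have hα : Function.Surjective α.toMonoidHom := fun x => α.surjective x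
  obtain ⟨w, hw, hw'⟩ := cset_sylow hm h2 (R.mapSurjective hα)
  refine ⟨w, hw, ?_⟩
  rw [← hR, ← hw', Sylow.coe_mapSurjective]
  ext x
  constructor
  · rintro ⟨y, ⟨hy, hy'⟩, rfl⟩
    refine ⟨⟨y, hy, rfl⟩, ?_⟩
    rintro _ ⟨z, hz, rfl⟩
    change α y * α z = α z * α y
    rw [← map_mul, ← map_mul, hy' z hz]
  · rintro ⟨⟨y, hy, rfl⟩, hy'⟩
    refine ⟨y, ⟨hy, fun z hz => α.injective ?_⟩, rfl⟩
    rw [map_mul, map_mul]
    exact hy' _ ⟨z, hz, rfl⟩

theorem Tb_smul (e : Vm) {c : F} (hc : c ≠ 0) : Tb (c • e) = (Tb e : Set Pm) := by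
  have h0 : c * c ≠ 0 := mul_ne_zero hc hc
  ext x
  constructor
  · rintro ⟨t, rfl⟩
    exact ⟨c * c * t, by rw [eich_smul t hc (sf_zero_right _), smul_zero]⟩
  · rintro ⟨t, rfl⟩
    refine ⟨t / (c * c), ?_⟩
    rw [eich_smul _ hc (sf_zero_right _), smul_zero, mul_div_cancel₀ _ h0]

theorem Tb_conj (e : Vm) (g : Gm) : MulAut.conj (ps g : Pm) '' Tb e = Tb (act g e) := by
  have key : ∀ t : F, MulAut.conj (ps g : Pm) (ps (eich e 0 t)) = ps (eich (act g e) 0 t) :=
    fun t => by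
    rw [MulAut.conj_apply, ← map_inv, ← map_mul, ← map_mul, eich_conj g t (sf_zero_right e),
      act_zero]
  ext x
  constructor
  · rintro ⟨_, ⟨t, rfl⟩, rfl⟩
    exact ⟨t, key t⟩
  · rintro ⟨t, rfl⟩
    exact ⟨_, mem_Tb e t, key t⟩

theorem Tb_inj (p : ℕ) [Fact p.Prime] [CharP F p] {v w : Vm} (hw : w ≠ 0)
    (h : (Tb v : Set Pm) = Tb w) : ∃ c : F, c ≠ 0 ∧ w = c • v := by
  obtain ⟨t, heq⟩ : (ps (eich w 0 1) : Pm) ∈ Tb v := h ▸ mem_Tb w 1
  have h1 := pElem_inj (PEl_eich (p := p) (1 : F) (sf_zero_right w))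
    (PEl_eich (p := p) t (sf_zero_right v)) heq
  obtain ⟨u, hwu⟩ := exists_partner hw
  have h3 := congrArg (fun g => act g u) h1
  simp only [act_eich_zero, hwu, mul_one, one_smul, add_right_inj] at h3
  exact ⟨_, fun h0 => hw (by rw [h3, h0, zero_smul]), h3⟩

theorem Tb_commute_iff (p : ℕ) [Fact p.Prime] [CharP F p] {v w : Vm} (hv : v ≠ 0) :
    (∀ x ∈ (Tb v : Set Pm), ∀ y ∈ (Tb w : Set Pm), x * y = y * x) ↔ sf v w = 0 := by
  constructor
  · intro h
    by_contra hvw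
    have h1 := pElem_comm (PEl_eich (p := p) (1 : F) (sf_zero_right w))
      (h _ (mem_Tb v 1) _ (mem_Tb w 1))
    have h3 := congrArg (fun g => act g v) h1
    simp only [act_mul, act_eich_zero, show sf v v = 0 from form_self v, mul_zero, zero_smul,
      add_zero, one_mul, sf_add_right, sf_smul_right, zero_add] at h3
    have hwv : sf w v ≠ 0 := by rw [sf, form_swap, ← sf]; exact neg_ne_zero.mpr hvw
    exact smul_ne_zero (mul_ne_zero hwv hvw) hv (add_eq_left.mp h3)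
  · rintro hvw _ ⟨t, rfl⟩ _ ⟨s, rfl⟩
    have hwv : sf w v = 0 := by rw [sf, form_swap, ← sf, hvw, neg_zero]
    rw [← map_mul, ← map_mul]
    congr 1
    apply eq_of_act
    intro x
    simp only [act_mul, act_eich_zero, sf_add_right, sf_smul_right, hvw, hwv, mul_zero, add_zero]
    module

theorem mem_normalizer_Tb (p : ℕ) [Fact p.Prime] [CharP F p] {e : Vm} (he : e ≠ 0) (g : Gm) :
    (ps g : Pm) ∈ Subgroup.normalizer (Tb e) ↔ ∃ c : F, act g e = c • e := by
  have hiff : (ps g : Pm) ∈ Subgroup.normalizer (Tb e) ↔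
      MulAut.conj (ps g : Pm) '' Tb e = Tb e := by
    rw [Subgroup.mem_set_normalizer_iff]
    constructor
    · intro h
      ext x
      constructor
      · rintro ⟨y, hy, rfl⟩
        exact (h y).mp hy
      · intro hx
        refine ⟨(MulAut.conj (ps g : Pm))⁻¹ x, (h _).mpr ?_, MulAut.apply_inv_self _ _ _⟩
        rw [← MulAut.conj_apply, MulAut.apply_inv_self]
        exact hx
    · intro h x
      refine ⟨fun hx => h ▸ ⟨x, hx, rfl⟩, fun hx => ?_⟩
      obtain ⟨y, hy, hyx⟩ := h.symm ▸ hx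
      rwa [← (MulAut.conj (ps g : Pm)).injective hyx]
  rw [hiff, Tb_conj]
  constructor
  · intro h
    obtain ⟨c, -, hc⟩ := Tb_inj p (act_ne_zero he g) h.symm
    exact ⟨c, hc⟩
  · rintro ⟨c, hc⟩
    have hc0 : c ≠ 0 := fun h0 => act_ne_zero he g (by rw [hc, h0, zero_smul])
    rw [hc, Tb_smul e hc0]

/-- A `p`-group in, and normalised by, the normaliser of `T_e` lies in the Eichler group. -/
theorem le_Qp (hm2 : 2 ≤ m) (i : Fin m) (R : Subgroup Pm) (hR : IsPGroup p R)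
    (hle : R ≤ Subgroup.normalizer (Tb (se i)))
    (hnorm : ∀ y ∈ Subgroup.normalizer (Tb (se (F := F) i)), ∀ r ∈ R, y * r * y⁻¹ ∈ R) :
    R ≤ (Qg (se i)).map ps := by
  classical
  have he := se_ne_zero (F := F) i
  let C : Subgroup Gm := R.comap ps
  let π : C →* R := (ps.comp C.subtype).codRestrict R fun x => x.2
  have hπ : Function.Surjective π := fun r => by
    obtain ⟨g, hg⟩ := ps_surjective r.1
    exact ⟨⟨g, show ps g ∈ R from hg ▸ r.2⟩, Subtype.ext hg⟩
  obtain ⟨S₁⟩ : Nonempty (Sylow p C) := inferInstance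
  have htop : ((S₁.mapSurjective hπ : Sylow p R) : Subgroup R) = ⊤ :=
    ((S₁.mapSurjective hπ).3 (hR.to_subgroup ⊤) le_top).symm
  let S₀ : Subgroup Gm := (S₁ : Subgroup C).map C.subtype
  have hS₀ : IsPGroup p S₀ := S₁.2.map _
  have hS₀pel : ∀ s ∈ S₀, PEl p s := fun s hs => by
    obtain ⟨k, hk⟩ := hS₀ ⟨s, hs⟩
    exact ⟨k, congrArg Subtype.val hk⟩
  have hS₀R : ∀ s ∈ S₀, (ps s : Pm) ∈ R := by
    rintro _ ⟨s, -, rfl⟩
    exact s.2
  have hlift : ∀ r ∈ R, ∃ s ∈ S₀, (ps s : Pm) = r := by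
    intro r hr
    have : (⟨r, hr⟩ : R) ∈ ((S₁.mapSurjective hπ : Sylow p R) : Subgroup R) := htop ▸ trivial
    rw [Sylow.coe_mapSurjective] at this
    obtain ⟨s, hs, hsr⟩ := this
    exact ⟨s.1, ⟨s, hs, rfl⟩, congrArg Subtype.val hsr⟩
  have hconj : ∀ g : Gm, act g (se i) = se i → ∀ s ∈ S₀, g * s * g⁻¹ ∈ S₀ := by
    intro g hg s hs
    have hgN : (ps g : Pm) ∈ Subgroup.normalizer (Tb (se i)) :=
      (mem_normalizer_Tb p he g).mpr ⟨1, by rw [hg, one_smul]⟩
    obtain ⟨s', hs', hss'⟩ := hlift _ (hnorm _ hgN _ (hS₀R s hs))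
    have hp : PEl p (g * s * g⁻¹) := by
      obtain ⟨k, hk⟩ := hS₀pel s hs
      exact ⟨k, by rw [← MulAut.conj_apply, ← map_pow, hk, map_one]⟩
    rw [pElem_inj hp (hS₀pel s' hs') (by rw [hss', map_mul, map_mul, map_inv])]
    exact hs'
  have hfix : ∀ s ∈ S₀, act s (se i) = se i := by
    intro s hs
    obtain ⟨c, hc⟩ := (mem_normalizer_Tb p he s).mp (hle (hS₀R s hs))
    obtain ⟨k, hk⟩ := hS₀pel s hs
    have hpow : ∀ j : ℕ, act (s ^ j) (se i) = c ^ j • se i := fun j => by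
      induction j with
      | zero => rw [pow_zero, pow_zero, act_one, one_smul]
      | succ j ih => rw [pow_succ', act_mul, ih, act_smul, hc, smul_smul, pow_succ]
    have h1 := hpow (p ^ k)
    rw [hk, act_one] at h1
    have h3 : c ^ p ^ k = 1 :=
      (smul_left_injective F he) (h1.symm.trans (one_smul F (se i)).symm)
    have h4 : (c - 1) ^ p ^ k = 0 := by rw [sub_pow_char_pow, one_pow, h3, sub_self]
    rw [hc, sub_eq_zero.mp (eq_zero_of_pow_eq_zero h4), one_smul]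
  let U : Submodule F Vm :=
    { carrier := {w | w ∈ Wsub i ∧ ∀ s ∈ S₀, ∃ c : F, act s w = w + c • se i}
      zero_mem' := ⟨(Wsub i).zero_mem, fun s _ => ⟨0, by rw [zero_smul, add_zero, act_zero]⟩⟩
      add_mem' := fun {a b} ha hb => ⟨(Wsub i).add_mem ha.1 hb.1, fun s hs => by
        obtain ⟨c, hc⟩ := ha.2 s hs
        obtain ⟨d, hd⟩ := hb.2 s hs
        exact ⟨c + d, by rw [act_add, hc, hd, add_smul]; abel⟩⟩
      smul_mem' := fun r w hw => ⟨(Wsub i).smul_mem r hw.1, fun s hs => by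
        obtain ⟨c, hc⟩ := hw.2 s hs
        exact ⟨r * c, by rw [act_smul, hc, smul_add, smul_smul]⟩⟩ }
  suffices hU : ∀ w ∈ Wsub i, w ∈ U by
    intro r hr
    obtain ⟨s, hs, rfl⟩ := hlift r hr
    obtain ⟨z, a, hz, rfl⟩ := eich_of_trivial (hfix s hs) (fun w hw => (hU w hw).2 s hs)
    exact ⟨_, ⟨z, a, (W_perp hz).1, rfl⟩, rfl⟩
  have hρ : ∀ s ∈ S₀, ∀ w ∈ Wsub i, ∃ c : F, act s w = projW i (act s w) + c • se i := by
    intro s hs w hw
    refine ⟨sf (act s w) (sff i), ?_⟩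
    have h1 : sf (se i) (act s w) = 0 := by rw [← hfix s hs, sf_act]; exact (W_perp hw).1
    rw [projW, h1, zero_smul]
    abel
  have hprojse : projW i (se i : Vm) = 0 := by
    simp [projW, sf_se_sff, show sf (se i : Vm) (se i) = 0 from form_self _]
  obtain ⟨u₀, v₀, hu₀, hv₀, huv₀⟩ := exists_W_pair (F := F) hm2 i
  obtain ⟨u, huU, hu0⟩ : ∃ u, u ∈ U ∧ u ≠ 0 := by
    obtain ⟨u, hu, hu0, hfixu⟩ := exists_fixed hS₀ (Wsub i).toAddSubgroup
      (fun s v => projW i (act s.1 v)) (fun s v _ => projW_mem i _)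
      (fun v hv => by
        change projW i (act 1 v) = v
        rw [act_one, projW_of_mem hv])
      (fun r s v hv => by
        obtain ⟨c, hc⟩ := hρ s.1 s.2 v hv
        change projW i (act (r.1 * s.1) v) = projW i (act r.1 (projW i (act s.1 v)))
        conv_lhs => rw [act_mul, hc, act_add, act_smul, hfix r.1 r.2]
        rw [projW_add, projW_smul, hprojse, smul_zero, add_zero])
      (fun r => by rw [act_zero, projW_of_mem (Wsub i).zero_mem])
      ⟨u₀, hu₀, fun h => by rw [h, sf_zero_left] at huv₀; exact zero_ne_one huv₀⟩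
    refine ⟨u, ⟨hu, fun s hs => ?_⟩, hu0⟩
    obtain ⟨c, hc⟩ := hρ s hs u hu
    exact ⟨c, by rwa [show projW i (act s u) = u from hfixu ⟨s, hs⟩] at hc⟩
  have hcontain : ∀ v ∈ Wsub i, ∀ w ∈ U, sf v w ≠ 0 → v ∈ U := by
    intro v hvW w hw hvw
    set τ := eich v 0 (1 : F) with hτdef
    have hτ : ∀ x, act τ x = x + sf v x • v := fun x => by rw [hτdef, act_eich_zero, one_mul]
    have hτe : act τ (se i) = se i := by rw [hτ, (W_perp hvW).2.1, zero_smul, add_zero]
    have hτinv : act τ⁻¹ (se i) = se i := by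
      conv_lhs => rw [← hτe]
      rw [act_inv_act]
    have h1 : act τ w ∈ U := by
      refine ⟨by rw [hτ]; exact (Wsub i).add_mem hw.1 ((Wsub i).smul_mem _ hvW),
        fun s hs => ?_⟩
      obtain ⟨c, hc⟩ := hw.2 _ (hconj τ⁻¹ hτinv s hs)
      refine ⟨c, ?_⟩
      have h3 := congrArg (act τ) hc
      rw [inv_inv, act_mul, act_mul, act_act_inv, act_add, act_smul, hτe] at h3
      exact h3
    have h3 := U.sub_mem h1 hw
    rw [hτ, add_sub_cancel_left] at h3
    have h4 := U.smul_mem (sf v w)⁻¹ h3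
    rwa [smul_smul, inv_mul_cancel₀ hvw, one_smul] at h4
  obtain ⟨x, hx, hux⟩ := exists_W_ne huU.1 hu0
  have hxu : sf x u ≠ 0 := by rw [sf, form_swap, ← sf]; exact neg_ne_zero.mpr hux
  intro v hv
  by_cases hvu : sf v u = 0
  · have hxU := hcontain x hx u huU hxu
    have h3 := hcontain (v + x) ((Wsub i).add_mem hv hx) u huU
      (by rw [sf_add_left, hvu, zero_add]; exact hxu)
    have h4 := U.sub_mem h3 hxU
    rwa [add_sub_cancel_right] at h4
  · exact hcontain v hv u huU hvu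

end PGroup

end Cfsg.Agent.Small.PSpn
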