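import Mathlib
import Cfsg.Agent.Lib.Small.PSpn.Points

/-!
If automorphisms of `PSp_{2m}(q)` permute the transvection groups, then every automorphism is
induced by a semilinear similitude. The permutation property holds in odd characteristic by
`exists_image`.
-/

set_option autoImplicit false
set_option linter.unusedSectionVars false

namespace Cfsg.Agent.Small.PSpn

open Matrix
open Cfsg.Agent.Lead.Symp (form_self form_swap)

variable {F : Type*} [Field F] [Fintype F] {m : ℕ}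

local notation "Vm" => Fin m ⊕ Fin m → F
local notation "Mm" => Matrix (Fin m ⊕ Fin m) (Fin m ⊕ Fin m) F
local notation "Gm" => Matrix.symplecticGroup (Fin m) F
local notation "Pm" => Cfsg.PSp m F
local notation "Hm" => Cfsg.GSp m F

variable (F m) in
/-- Automorphisms permute the transvection groups. -/
def HImg : Prop :=
  ∀ (α : MulAut (Cfsg.PSp m F)) (v : Fin m ⊕ Fin m → F), v ≠ 0 →
    ∃ w : Fin m ⊕ Fin m → F, w ≠ 0 ∧ α '' Tb v = Tb w

/-- The automorphism permutes the transvection groups. -/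
def HI (α : MulAut Pm) : Prop := ∀ v : Vm, v ≠ 0 → ∃ w : Vm, w ≠ 0 ∧ α '' Tb v = Tb w

theorem HI_mul {α β : MulAut Pm} (hα : HI α) (hβ : HI β) : HI (α * β) := by
  intro v hv
  obtain ⟨w, hw, h1⟩ := hβ v hv
  obtain ⟨u, hu, h3⟩ := hα w hw
  exact ⟨u, hu, by rw [MulAut.coe_mul, Set.image_comp, h1, h3]⟩

theorem HI_conj (g : Gm) : HI (MulAut.conj (ps g : Pm)) :=
  fun v hv => ⟨act g v, act_ne_zero hv g, Tb_conj v g⟩

theorem himg_odd (hm : 1 ≤ m) (h2 : (2 : F) ≠ 0) : HImg F m := by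
  obtain ⟨p, _⟩ := CharP.exists F
  have : Fact p.Prime := ⟨CharP.char_is_prime F p⟩
  exact fun α v hv => exists_image hm h2 p α hv

theorem comp_se (σ : F ≃+* F) (i : Fin m) : σ ∘ (se i : Vm) = se i := by
  funext k
  simp [se, Pi.single_apply, apply_ite σ]

theorem comp_sff (σ : F ≃+* F) (i : Fin m) : σ ∘ (sff i : Vm) = sff i := by
  funext k
  simp [sff, Pi.single_apply, apply_ite σ]

theorem comp_mem_W (σ : F ≃+* F) {i : Fin m} {z : Vm} (hz : z ∈ Wsub i) : σ ∘ z ∈ Wsub i :=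
  ⟨by simp [hz.1], by simp [hz.2]⟩

theorem projW_se (i : Fin m) : projW i (se i : Vm) = 0 := by
  simp [projW, sf_se_sff, show sf (se i : Vm) (se i) = 0 from form_self _]

theorem projW_sff (i : Fin m) : projW i (sff i : Vm) = 0 := by
  simp [projW, sf_se_sff, show sf (sff i : Vm) (sff i) = 0 from form_self _]

/-- Two transvections with orthogonal centres commute. -/
theorem trans_comm {v w : Vm} (h : sf v w = 0) (t s : F) :
    eich v 0 t * eich w 0 s = eich w 0 s * eich v 0 t := by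
  have hwv : sf w v = 0 := by rw [sf, form_swap, ← sf, h, neg_zero]
  apply eq_of_act
  intro x
  simp only [act_mul, act_eich_zero, sf_add_right, sf_smul_right, h, hwv, mul_zero, add_zero]
  module

/-- A transvection with centre `e + w`. -/
theorem trans_add_eq {e w : Vm} (h : sf e w = 0) (t : F) :
    eich (e + w) 0 t = eich e (t • w) t * eich w 0 t := by
  have hwe : sf w e = 0 := by rw [sf, form_swap, ← sf, h, neg_zero]
  apply eq_of_act
  intro x
  rw [act_mul, act_eich_zero, act_eich_zero, act_eich t (by rw [sf_smul_right, h, mul_zero])]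
  simp only [sf_add_left, sf_add_right, sf_smul_left, sf_smul_right, h,
    show sf w w = 0 from form_self w]
  module

/-- An additive map preserving every line of a non-degenerate subspace is scalar there. -/
theorem line_scalar (U : Submodule F Vm) (hnd : ∀ u ∈ U, u ≠ 0 → ∃ x ∈ U, sf u x ≠ 0)
    {u₀ : Vm} (hu₀ : u₀ ∈ U) (hu₀0 : u₀ ≠ 0) (B : Vm → Vm)
    (hadd : ∀ x ∈ U, ∀ y ∈ U, B (x + y) = B x + B y)
    (hline : ∀ v ∈ U, ∃ c : F, B v = c • v) : ∃ b : F, ∀ v ∈ U, B v = b • v := by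
  have key : ∀ x ∈ U, ∀ y ∈ U, sf x y ≠ 0 → ∀ c d : F, B x = c • x → B y = d • y → c = d := by
    intro x hx y hy hxy c d hc hd
    obtain ⟨k, hk⟩ := hline _ (U.add_mem hx hy)
    rw [hadd x hx y hy, hc, hd] at hk
    have h1 := congrArg (fun v => sf x v) hk
    have h3 := congrArg (fun v => sf v y) hk
    simp only [sf_add_left, sf_add_right, sf_smul_left, sf_smul_right,
      show sf x x = 0 from form_self x, show sf y y = 0 from form_self y] at h1 h3
    exact mul_right_cancel₀ hxy (by linear_combination h3 - h1)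
  obtain ⟨b, hb⟩ := hline u₀ hu₀
  refine ⟨b, fun v hv => ?_⟩
  rcases eq_or_ne v 0 with rfl | hv0
  · have h1 := hadd 0 U.zero_mem 0 U.zero_mem
    rw [add_zero] at h1
    rw [left_eq_add.mp h1, smul_zero]
  obtain ⟨z₁, hz₁, h1⟩ := hnd u₀ hu₀ hu₀0
  obtain ⟨z₂, hz₂, h3⟩ := hnd v hv hv0
  obtain ⟨z, hz, hzu, hzv⟩ : ∃ z ∈ U, sf u₀ z ≠ 0 ∧ sf v z ≠ 0 := by
    by_cases hA : sf v z₁ = 0
    · by_cases hB : sf u₀ z₂ = 0
      · refine ⟨z₁ + z₂, U.add_mem hz₁ hz₂, ?_, ?_⟩
        · rwa [sf_add_right, hB, add_zero]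
        · rwa [sf_add_right, hA, zero_add]
      · exact ⟨z₂, hz₂, hB, h3⟩
    · exact ⟨z₁, hz₁, h1, hA⟩
  obtain ⟨c, hc⟩ := hline v hv
  obtain ⟨d, hd⟩ := hline z hz
  rw [hc, key v hv z hz hzv c d hc hd, ← key u₀ hu₀ z hz hzu b d hb hd]

/-- An element fixing every line is central. -/
theorem mem_center_of_fixes_lines (hm : 1 ≤ m) {g : Gm}
    (h : ∀ v : Vm, v ≠ 0 → ∃ c : F, act g v = c • v) : g ∈ Subgroup.center Gm := by
  obtain ⟨b, hb⟩ := line_scalar (⊤ : Submodule F Vm)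
    (fun u _ hu => by
      obtain ⟨x, hx⟩ := Cfsg.Agent.Lead.Symp.exists_form_ne hu
      exact ⟨x, trivial, hx⟩)
    (u₀ := se ⟨0, hm⟩) trivial (se_ne_zero _) (act g) (fun x _ y _ => act_add g x y)
    (fun v _ => by
      rcases eq_or_ne v 0 with rfl | hv
      · exact ⟨0, by rw [act_zero, zero_smul]⟩
      · exact h v hv)
  rw [Subgroup.mem_center_iff]
  intro y
  apply eq_of_act
  intro v
  rw [act_mul, act_mul, hb _ trivial, hb _ trivial, act_smul]

theorem Tb_sact {g : Hm} {σ : F ≃+* F} {c : F} (hc0 : c ≠ 0)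
    (hc : ∀ u v, sf (g.1.val *ᵥ u) (g.1.val *ᵥ v) = c * sf u v) (v : Vm) :
    (cS g * fS σ : MulAut Pm) '' Tb v = Tb (sact g σ v) := by
  have key : ∀ t : F, (cS g * fS σ : MulAut Pm) (ps (eich v 0 t)) =
      ps (eich (sact g σ v) 0 (c⁻¹ * σ t)) := fun t => by
    rw [aut_eich hc0 hc t (sf_zero_right v), sact_zero, smul_zero]
  ext x
  constructor
  · rintro ⟨_, ⟨t, rfl⟩, rfl⟩
    exact ⟨_, key t⟩
  · rintro ⟨t, rfl⟩
    refine ⟨_, mem_Tb v (σ.symm (c * t)), ?_⟩
    rw [key, RingEquiv.apply_symm_apply, ← mul_assoc, inv_mul_cancel₀ hc0, one_mul]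

theorem HI_sem_inv (g : Hm) (σ : F ≃+* F) : HI ((cS g * fS σ : MulAut Pm)⁻¹) := by
  obtain ⟨c, hc⟩ := g.2
  intro w hw
  obtain ⟨v, rfl⟩ := Finite.injective_iff_surjective.mp (sact_injective g σ) w
  refine ⟨v, fun h => hw (by rw [h, sact_zero]), ?_⟩
  rw [← Tb_sact c.ne_zero hc v, Set.image_image]
  simp

/-- The automorphism fixes both transvection groups of the standard pair. -/
def Fix (β : MulAut Pm) (i : Fin m) : Prop :=
  β '' Tb (se i) = Tb (se i) ∧ β '' Tb (sff i) = Tb (sff i)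

theorem mem_normalizer_image {G : Type*} [Group G] (β : MulAut G) {S : Set G} (hS : β '' S = S)
    (y : G) : β y ∈ Subgroup.normalizer S ↔ y ∈ Subgroup.normalizer S := by
  have h1 : ∀ x, β x ∈ S ↔ x ∈ S := fun x => by
    conv_lhs => rw [← hS, β.injective.mem_set_image]
  simp only [Subgroup.mem_set_normalizer_iff]
  constructor
  · intro h x
    rw [← h1 x, h (β x), ← map_inv, ← map_mul, ← map_mul, h1]
  · intro h x
    obtain ⟨x, rfl⟩ := β.surjective x
    rw [← map_inv, ← map_mul, ← map_mul, h1, h1]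
    exact h x

theorem image_inv {G : Type*} [Group G] {β : MulAut G} {S : Set G} (h : β '' S = S) :
    ⇑(β⁻¹ : MulAut G) '' S = S := by
  conv_lhs => rw [← h]
  rw [Set.image_image]
  simp

section Main

variable (p : ℕ) [Fact p.Prime] [CharP F p] (hm2 : 2 ≤ m)

include p in
theorem ps_eich_inj {i : Fin m} {z w : Vm} {a b : F} (hz : z ∈ Wsub i) (hw : w ∈ Wsub i)
    (heq : (ps (eich (se i) z a) : Pm) = ps (eich (se i) w b)) : z = w ∧ a = b :=
  eich_inj hz hw (pElem_inj (PEl_eich (p := p) a (W_perp hz).1)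
    (PEl_eich (p := p) b (W_perp hw).1) heq)

include p hm2 in
theorem Qp_image {i : Fin m} {β : MulAut Pm} (hβ : β '' Tb (se i) = Tb (se i)) {z : Vm} (a : F)
    (h : sf (se i) z = 0) :
    ∃ w b, w ∈ Wsub i ∧ β (ps (eich (se i) z a)) = ps (eich (se i) w b) := by
  have he := se_ne_zero (F := F) i
  let R : Subgroup Pm := ((Qg (se i)).map ps).map β.toMonoidHom
  have hR : IsPGroup p R := ((isPGroup_Qg (se i)).map _).map _
  have hle : R ≤ Subgroup.normalizer (Tb (se i)) := by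
    rintro _ ⟨_, ⟨g, hg, rfl⟩, rfl⟩
    refine (mem_normalizer_image β hβ _).mpr ((mem_normalizer_Tb p he g).mpr ⟨1, ?_⟩)
    rw [one_smul]
    exact fixes_Qg hg
  have hnorm : ∀ y ∈ Subgroup.normalizer (Tb (se (F := F) i)), ∀ r ∈ R, y * r * y⁻¹ ∈ R := by
    intro y hy r hr
    obtain ⟨_, ⟨_, ⟨z', a', h', rfl⟩, rfl⟩, rfl⟩ := hr
    obtain ⟨y₀, rfl⟩ := β.surjective y
    obtain ⟨g, rfl⟩ := ps_surjective y₀
    obtain ⟨c, hc⟩ := (mem_normalizer_Tb p he g).mp ((mem_normalizer_image β hβ _).mp hy)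
    have hc0 : c ≠ 0 := fun h0 => act_ne_zero he g (by rw [hc, h0, zero_smul])
    have h1 : sf (c • se i) (act g z') = 0 := by rw [← hc, sf_act]; exact h'
    have h3 : g * eich (se i) z' a' * g⁻¹ = eich (se i) (c • act g z') (c * c * a') := by
      rw [eich_conj g a' h', hc, eich_smul a' hc0 h1]
    refine ⟨_, ⟨_, ⟨c • act g z', c * c * a', ?_, rfl⟩, rfl⟩, ?_⟩
    · rw [sf_smul_left] at h1
      rw [sf_smul_right]
      exact h1
    · change β (ps _) = β (ps g) * β (ps _) * (β (ps g))⁻¹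
      rw [← h3, map_mul, map_mul, map_inv, map_mul, map_mul, map_inv]
  obtain ⟨_, ⟨w₀, b₀, hw₀, rfl⟩, hx⟩ :=
    le_Qp (p := p) hm2 i R hR hle hnorm ⟨_, ⟨_, ⟨z, a, h, rfl⟩, rfl⟩, rfl⟩
  have hd : w₀ = projW i w₀ + sf w₀ (sff i) • se i := by
    rw [projW, hw₀, zero_smul]; abel
  refine ⟨projW i w₀, b₀ + 2 * sf w₀ (sff i), projW_mem i w₀, ?_⟩
  rw [← eich_shift _ _ (W_perp (projW_mem i w₀)).1, ← hd]
  exact hx.symm

include p in
/-- Orthogonality to a fixed point is preserved. -/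
theorem image_perp {β : MulAut Pm} {u v v' : Vm} (hu : u ≠ 0) (hfix : β '' Tb u = Tb u)
    (hv : β '' Tb v = Tb v') (h : sf u v = 0) : sf u v' = 0 := by
  rw [← Tb_commute_iff p hu, ← hfix, ← hv]
  rintro _ ⟨x, hx, rfl⟩ _ ⟨y, hy, rfl⟩
  rw [← map_mul, ← map_mul, (Tb_commute_iff p hu).mpr h x hx y hy]

include p hm2 in
theorem exists_semilinear {i : Fin m} {β : MulAut Pm} (himg : HI β) (hβ : Fix β i) :
    ∃ (g : Hm) (σ : F ≃+* F), Fix (cS g * fS σ) i ∧
      (∀ w ∈ Wsub i, ∀ t, β (ps (eich w 0 t)) = (cS g * fS σ : MulAut Pm) (ps (eich w 0 t))) ∧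
      ∀ z ∈ Wsub i, ∀ a, ∃ w b b', w ∈ Wsub i ∧
        β (ps (eich (se i) z a)) = ps (eich (se i) w b) ∧
        (cS g * fS σ : MulAut Pm) (ps (eich (se i) z a)) = ps (eich (se i) w b') := by
  classical
  have he := se_ne_zero (F := F) i
  have hf := sff_ne_zero (F := F) i
  have hA' : ∀ z : Vm, ∃ w : Vm, z ∈ Wsub i → w ∈ Wsub i ∧
      ∀ a, ∃ b, β (ps (eich (se i) z a)) = ps (eich (se i) w b) := fun z => by
    by_cases hz : z ∈ Wsub i
    swap
    · exact ⟨0, fun h => absurd h hz⟩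
    obtain ⟨w, b₀, hw, heq⟩ := Qp_image p hm2 hβ.1 0 (W_perp hz).1
    refine ⟨w, fun _ => ⟨hw, fun a => ?_⟩⟩
    obtain ⟨t, ht⟩ : β (ps (eich (se i) 0 a)) ∈ (Tb (se i) : Set Pm) :=
      hβ.1 ▸ ⟨_, mem_Tb _ a, rfl⟩
    refine ⟨b₀ + t + sf w 0, ?_⟩
    have hsplit : eich (se i) z a = eich (se i) z 0 * eich (se i) 0 a := by
      rw [eich_mul 0 a (W_perp hz).1 (sf_zero_right _), sf_zero_right, add_zero, add_zero,
        zero_add]
    rw [hsplit, map_mul, map_mul, heq, ht, ← map_mul,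
      eich_mul _ _ (W_perp hw).1 (sf_zero_right _), add_zero]
  choose A hA' using hA'
  have hAW : ∀ z ∈ Wsub i, A z ∈ Wsub i := fun z hz => (hA' z hz).1
  have hA : ∀ z ∈ Wsub i, ∀ a, ∃ b, β (ps (eich (se i) z a)) = ps (eich (se i) (A z) b) :=
    fun z hz => (hA' z hz).2
  have hAadd : ∀ x ∈ Wsub i, ∀ y ∈ Wsub i, A (x + y) = A x + A y := by
    intro x hx y hy
    obtain ⟨a, ha⟩ := hA x hx 0
    obtain ⟨b, hb⟩ := hA y hy 0
    have hxy := (Wsub i).add_mem hx hy
    obtain ⟨c, hc⟩ := hA _ hxy (0 + 0 + sf x y)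
    rw [← eich_mul 0 0 (W_perp hx).1 (W_perp hy).1, map_mul, map_mul, ha, hb, ← map_mul,
      eich_mul _ _ (W_perp (hAW x hx)).1 (W_perp (hAW y hy)).1] at hc
    exact (ps_eich_inj p ((Wsub i).add_mem (hAW x hx) (hAW y hy)) (hAW _ hxy) hc).1.symm
  have hAinj : ∀ z ∈ Wsub i, A z = 0 → z = 0 := by
    intro z hz h0
    obtain ⟨b, hb⟩ := hA z hz 0
    rw [h0] at hb
    obtain ⟨x, ⟨t, rfl⟩, hx⟩ : (ps (eich (se i) 0 b) : Pm) ∈ β '' Tb (se i) := by
      rw [hβ.1]; exact mem_Tb _ b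
    exact (ps_eich_inj p hz (Wsub i).zero_mem (β.injective (hb.trans hx.symm))).1
  have hAsurj : ∀ w : Vm, ∃ z : Vm, w ∈ Wsub i → z ∈ Wsub i ∧ A z = w := by
    intro w
    let T : Wsub (F := F) i → Wsub (F := F) i := fun z => ⟨A z.1, hAW z.1 z.2⟩
    have hT : Function.Injective T := by
      intro x y hxy
      have h1 : A x.1 = A y.1 := congrArg Subtype.val hxy
      have hd : x.1 - y.1 ∈ Wsub i := sub_mem x.2 y.2
      have h3 := hAadd (x.1 - y.1) hd y.1 y.2
      rw [sub_add_cancel, h1, right_eq_add] at h3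
      exact Subtype.ext (sub_eq_zero.mp (hAinj _ hd h3))
    by_cases hw : w ∈ Wsub i
    · obtain ⟨z, hz⟩ := Finite.injective_iff_surjective.mp hT ⟨w, hw⟩
      exact ⟨z.1, fun _ => ⟨z.2, congrArg Subtype.val hz⟩⟩
    · exact ⟨0, fun h => absurd h hw⟩
  choose Ai hAi using hAsurj
  have hAiA : ∀ z ∈ Wsub i, Ai (A z) = z := fun z hz => by
    obtain ⟨h1, h3⟩ := hAi (A z) (hAW z hz)
    have hd : Ai (A z) - z ∈ Wsub i := sub_mem h1 hz
    have h4 := hAadd (Ai (A z) - z) hd z hz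
    rw [sub_add_cancel, h3, right_eq_add] at h4
    exact sub_eq_zero.mp (hAinj _ hd h4)
  -- transvections of the complement
  have hrel : ∀ w ∈ Wsub i, w ≠ 0 → ∃ w' : Vm, β '' Tb w = Tb w' ∧ w' ∈ Wsub i ∧
      ∀ t s : F, β (ps (eich w 0 t)) = ps (eich w' 0 s) → ∀ z ∈ Wsub i,
        A ((t * sf w z) • w) = (s * sf w' (A z)) • w' := by
    intro w hw hw0
    obtain ⟨w', hw'0, hw'⟩ := himg w hw0
    have h1 := image_perp p he hβ.1 hw' (W_perp hw).1
    have h3 := image_perp p hf hβ.2 hw' (W_perp hw).2.2.2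
    have hw'W : w' ∈ Wsub i := mem_W_of h1 (by rw [sf, form_swap, ← sf, h3, neg_zero])
    refine ⟨w', hw', hw'W, fun t s hts z hz => ?_⟩
    obtain ⟨b, hb⟩ := hA z hz 0
    have hz' := (Wsub i).add_mem hz ((Wsub i).smul_mem (t * sf w z) hw)
    have hAz' := (Wsub i).add_mem (hAW z hz)
      ((Wsub i).smul_mem (s * sf w' (A z)) hw'W)
    obtain ⟨b', hb'⟩ := hA _ hz' 0
    have c1 : eich w 0 t * eich (se i) z 0 * (eich w 0 t)⁻¹ =
        eich (se i) (z + (t * sf w z) • w) 0 := by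
      rw [eich_conj _ _ (W_perp hz).1, act_eich_zero, act_eich_zero, (W_perp hw).2.1, mul_zero,
        zero_smul, add_zero]
    have c2 : eich w' 0 s * eich (se i) (A z) b * (eich w' 0 s)⁻¹ =
        eich (se i) (A z + (s * sf w' (A z)) • w') b := by
      rw [eich_conj _ _ (W_perp (hAW z hz)).1, act_eich_zero, act_eich_zero, (W_perp hw'W).2.1,
        mul_zero, zero_smul, add_zero]
    rw [← c1, map_mul, map_mul, map_inv, map_mul, map_mul, map_inv, hts, hb, ← map_inv,
      ← map_mul, ← map_mul, c2] at hb'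
    have h4 := (ps_eich_inj p hAz' (hAW _ hz') hb').1
    rw [hAadd z hz _ ((Wsub i).smul_mem _ hw)] at h4
    exact (add_left_cancel h4).symm
  have hline : ∀ w ∈ Wsub i, w ≠ 0 → β '' Tb w = Tb (A w) ∧ ∀ c : F, ∃ d : F,
      A (c • w) = d • A w := by
    intro w hw hw0
    obtain ⟨w', hw', hw'W, hrel⟩ := hrel w hw hw0
    obtain ⟨x, hx, hwx⟩ := exists_W_ne hw hw0
    have key : ∀ c : F, ∃ d : F, A (c • w) = d • w' := fun c => by
      obtain ⟨s, hs⟩ : β (ps (eich w 0 (c / sf w x))) ∈ (Tb w' : Set Pm) :=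
        hw' ▸ ⟨_, mem_Tb _ _, rfl⟩
      exact ⟨_, by have := hrel _ s hs x hx; rwa [div_mul_cancel₀ c hwx] at this⟩
    obtain ⟨k, hk⟩ := key 1
    rw [one_smul] at hk
    have hk0 : k ≠ 0 := fun h => hw0 (hAinj w hw (by rw [hk, h, zero_smul]))
    refine ⟨by rw [hw', hk, Tb_smul w' hk0], fun c => ?_⟩
    obtain ⟨d, hd⟩ := key c
    exact ⟨d / k, by rw [hd, hk, smul_smul, div_mul_cancel₀ d hk0]⟩
  obtain ⟨u₀, v₀, hu₀, hv₀, huv₀⟩ := exists_W_pair (F := F) hm2 i
  have hu₀0 : u₀ ≠ 0 := fun h => by rw [h, sf_zero_left] at huv₀; exact zero_ne_one huv₀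
  -- semilinearity
  have hsemi : ∀ c : F, ∃ b : F, ∀ z ∈ Wsub i, A (c • z) = b • A z := by
    intro c
    obtain ⟨b, hb⟩ := line_scalar (Wsub i) (fun u hu hu0 => exists_W_ne hu hu0) hu₀ hu₀0
      (fun w => A (c • Ai w))
      (fun x hx y hy => by
        obtain ⟨hx1, hx2⟩ := hAi x hx
        obtain ⟨hy1, hy2⟩ := hAi y hy
        have : Ai (x + y) = Ai x + Ai y := by
          conv_lhs => rw [← hx2, ← hy2, ← hAadd _ hx1 _ hy1]
          exact hAiA _ ((Wsub i).add_mem hx1 hy1)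
        simp only [this, smul_add]
        exact hAadd _ ((Wsub i).smul_mem c hx1) _ ((Wsub i).smul_mem c hy1))
      (fun v hv => by
        obtain ⟨h1, h3⟩ := hAi v hv
        rcases eq_or_ne (Ai v) 0 with h0 | h0
        · refine ⟨1, ?_⟩
          simp only [h0, smul_zero, one_smul]
          rw [← h3, h0]
        · obtain ⟨d, hd⟩ := (hline _ h1 h0).2 c
          exact ⟨d, by simp only [hd, h3]⟩)
    refine ⟨b, fun z hz => ?_⟩
    have := hb (A z) (hAW z hz)
    simpa only [hAiA z hz] using this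
  choose σf hσf using hsemi
  have hAu₀ : A u₀ ≠ 0 := fun h => hu₀0 (hAinj u₀ hu₀ h)
  have hcanc : ∀ a b : F, a • A u₀ = b • A u₀ → a = b := fun a b h =>
    smul_left_injective F hAu₀ h
  have hA0 : A 0 = 0 := by
    have := hAadd 0 (Wsub i).zero_mem 0 (Wsub i).zero_mem
    rw [add_zero] at this
    exact left_eq_add.mp this
  let σh : F →+* F :=
    { toFun := σf
      map_one' := hcanc _ _ (by rw [← hσf 1 u₀ hu₀, one_smul, one_smul])
      map_mul' := fun a b => hcanc _ _ (by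
        rw [← hσf _ u₀ hu₀, mul_smul, mul_smul, hσf a _ ((Wsub i).smul_mem b hu₀), hσf b u₀ hu₀])
      map_zero' := hcanc _ _ (by rw [← hσf 0 u₀ hu₀, zero_smul, hA0, zero_smul])
      map_add' := fun a b => hcanc _ _ (by
        rw [← hσf _ u₀ hu₀, add_smul, add_smul,
          hAadd _ ((Wsub i).smul_mem a hu₀) _ ((Wsub i).smul_mem b hu₀), hσf a u₀ hu₀,
          hσf b u₀ hu₀]) }
  let σ : F ≃+* F := RingEquiv.ofBijective σh
    (Finite.injective_iff_bijective.mp σh.injective)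
  have hσ : ∀ (c : F), ∀ z ∈ Wsub i, A (c • z) = σ c • A z := hσf
  -- the multiplier
  have hψ : ∀ w ∈ Wsub i, w ≠ 0 → ∀ t s : F, β (ps (eich w 0 t)) = ps (eich (A w) 0 s) →
      ∀ z ∈ Wsub i, σ t * σ (sf w z) = s * sf (A w) (A z) := by
    intro w hw hw0 t s hts z hz
    obtain ⟨w', hw', hw'W, hrel⟩ := hrel w hw hw0
    have hA0w : A w ≠ 0 := fun h => hw0 (hAinj w hw h)
    obtain ⟨k, hk0, hk⟩ := Tb_inj p (v := w') hA0w (hw'.symm.trans (hline w hw hw0).1)
    have hts' : β (ps (eich w 0 t)) = ps (eich w' 0 (k * k * s)) := by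
      rw [hts, hk, eich_smul s hk0 (sf_zero_right _), smul_zero]
    have h1 := hrel t _ hts' z hz
    rw [hσ _ w hw] at h1
    refine (map_mul σ t _).symm.trans (smul_left_injective F hA0w ?_)
    simp only
    rw [h1, hk, smul_smul, sf_smul_left]
    congr 1
    ring
  have hk : ∀ w ∈ Wsub i, w ≠ 0 → ∃ k : F, k ≠ 0 ∧ ∀ z ∈ Wsub i,
      sf (A w) (A z) = k * σ (sf w z) := by
    intro w hw hw0
    obtain ⟨s, hs⟩ : β (ps (eich w 0 1)) ∈ (Tb (A w) : Set Pm) :=
      (hline w hw hw0).1 ▸ ⟨_, mem_Tb _ _, rfl⟩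
    have h1 := hψ w hw hw0 1 s hs
    have hs0 : s ≠ 0 := by
      intro h0
      obtain ⟨x, hx, hwx⟩ := exists_W_ne hw hw0
      have h3 := h1 x hx
      rw [h0, zero_mul, map_one, one_mul, map_eq_zero] at h3
      exact hwx h3
    refine ⟨s⁻¹, inv_ne_zero hs0, fun z hz => ?_⟩
    have h3 := h1 z hz
    rw [map_one, one_mul] at h3
    rw [h3, ← mul_assoc, inv_mul_cancel₀ hs0, one_mul]
  obtain ⟨N, hN0, hN⟩ := hk u₀ hu₀ hu₀0
  have hkey : ∀ x ∈ Wsub i, ∀ y ∈ Wsub i, sf x y ≠ 0 → ∀ k l : F,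
      (∀ z ∈ Wsub i, sf (A x) (A z) = k * σ (sf x z)) →
      (∀ z ∈ Wsub i, sf (A y) (A z) = l * σ (sf y z)) → k = l := by
    intro x hx y hy hxy k l hk hl
    refine mul_right_cancel₀ ((map_ne_zero σ).mpr hxy) ?_
    rw [← hk y hy, show sf (A x) (A y) = -sf (A y) (A x) from form_swap _ _, hl x hx,
      show sf x y = -sf y x from form_swap _ _, map_neg, mul_neg]
  have hsim : ∀ w ∈ Wsub i, ∀ z ∈ Wsub i, sf (A w) (A z) = N * σ (sf w z) := by
    intro w hw z hz
    rcases eq_or_ne w 0 with rfl | hw0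
    · rw [hA0, sf_zero_left, sf_zero_left, map_zero, mul_zero]
    obtain ⟨k, -, hkw⟩ := hk w hw hw0
    obtain ⟨x, hx, hwx⟩ := exists_W_ne hw hw0
    obtain ⟨y, hy, huy⟩ := exists_W_ne hu₀ hu₀0
    obtain ⟨r, hr, hrw, hru⟩ : ∃ r ∈ Wsub i, sf w r ≠ 0 ∧ sf u₀ r ≠ 0 := by
      by_cases h1 : sf u₀ x = 0
      · by_cases h3 : sf w y = 0
        · refine ⟨x + y, (Wsub i).add_mem hx hy, ?_, ?_⟩
          · rwa [sf_add_right, h3, add_zero]
          · rwa [sf_add_right, h1, zero_add]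
        · exact ⟨y, hy, h3, huy⟩
      · exact ⟨x, hx, hwx, h1⟩
    have hr0 : r ≠ 0 := fun h => by rw [h, sf_zero_right] at hrw; exact hrw rfl
    obtain ⟨l, -, hlr⟩ := hk r hr hr0
    rw [hkw z hz, hkey w hw r hr hrw k l hkw hlr, ← hkey u₀ hu₀ r hr hru N l hN hlr]
  have hψ' : ∀ w ∈ Wsub i, w ≠ 0 → ∀ t,
      β (ps (eich w 0 t)) = ps (eich (A w) 0 (N⁻¹ * σ t)) := by
    intro w hw hw0 t
    obtain ⟨s, hs⟩ : β (ps (eich w 0 t)) ∈ (Tb (A w) : Set Pm) :=
      (hline w hw hw0).1 ▸ ⟨_, mem_Tb _ _, rfl⟩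
    obtain ⟨x, hx, hwx⟩ := exists_W_ne hw hw0
    have h1 := hψ w hw hw0 t s hs x hx
    rw [hsim w hw x hx, ← mul_assoc] at h1
    have h3 : σ t = s * N := mul_right_cancel₀ ((map_ne_zero σ).mpr hwx) h1
    rw [hs, h3, mul_comm s, ← mul_assoc, inv_mul_cancel₀ hN0, one_mul]
  -- the similitude
  let L : Vm →ₗ[F] Vm :=
    { toFun := fun v =>
        (N * sf v (sff i)) • se i + sf (se i) v • sff i + A (σ.symm ∘ projW i v)
      map_add' := fun u v => by
        have h1 : σ.symm ∘ projW i (u + v) = σ.symm ∘ projW i u + σ.symm ∘ projW i v := by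
          rw [projW_add]; funext k; simp
        rw [h1, hAadd _ (comp_mem_W _ (projW_mem i u)) _ (comp_mem_W _ (projW_mem i v)),
          sf_add_left, sf_add_right]
        module
      map_smul' := fun c v => by
        have h1 : σ.symm ∘ projW i (c • v) = σ.symm c • (σ.symm ∘ projW i v) := by
          rw [projW_smul]; funext k; simp
        rw [h1, hσ _ _ (comp_mem_W _ (projW_mem i v)), RingEquiv.apply_symm_apply, sf_smul_left,
          sf_smul_right, RingHom.id_apply]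
        module }
  have hL : ∀ v, L v =
      (N * sf v (sff i)) • se i + sf (se i) v • sff i + A (σ.symm ∘ projW i v) := fun v => rfl
  have hLsf : ∀ u v, sf (L u) (L v) = N * sf u v := by
    intro u v
    have hu := projW_mem i u
    have hv := projW_mem i v
    have hAu := hAW _ (comp_mem_W σ.symm hu)
    have hAv := hAW _ (comp_mem_W σ.symm hv)
    have hW : sf (A (σ.symm ∘ projW i u)) (A (σ.symm ∘ projW i v)) =
        N * sf (projW i u) (projW i v) := by
      rw [hsim _ (comp_mem_W _ hu) _ (comp_mem_W _ hv), sf_comp, RingEquiv.apply_symm_apply]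
    conv_rhs => rw [eq_projW_add i u, eq_projW_add i v]
    simp only [hL, sf_add_left, sf_add_right, sf_smul_left, sf_smul_right, sf_se_sff, sf_sff_se,
      show sf (se i : Vm) (se i) = 0 from form_self _,
      show sf (sff i : Vm) (sff i) = 0 from form_self _, hW, (W_perp hAu).2.1,
      (W_perp hAu).2.2.1, (W_perp hAv).1, (W_perp hAv).2.2.2, (W_perp hu).2.1, (W_perp hu).2.2.1,
      (W_perp hv).1, (W_perp hv).2.2.2]
    ring
  let M : Mm := LinearMap.toMatrix' L
  have hM : ∀ v, M *ᵥ v = L v := fun v => LinearMap.toMatrix'_mulVec L v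
  have hMinj : Function.Injective M.mulVec := by
    intro u v huv
    simp only [hM] at huv
    by_contra hne
    obtain ⟨y, hy⟩ := Cfsg.Agent.Lead.Symp.exists_form_ne (sub_ne_zero.mpr hne)
    apply mul_ne_zero hN0 hy
    change N * sf (u - v) y = 0
    rw [← hLsf, map_sub, huv, sub_self, sf_zero_left]
  let gl : GL (Fin m ⊕ Fin m) F := (Matrix.mulVec_injective_iff_isUnit.mp hMinj).unit
  let g : Hm := ⟨gl, Units.mk0 N hN0, fun u v => by
    change sf (M *ᵥ u) (M *ᵥ v) = N * sf u v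
    rw [hM, hM, hLsf]⟩
  have hgc : ∀ u v, sf (g.1.val *ᵥ u) (g.1.val *ᵥ v) = N * sf u v := fun u v => by
    change sf (M *ᵥ u) (M *ᵥ v) = N * sf u v
    rw [hM, hM, hLsf]
  have hsact : ∀ v, sact g σ v = L (σ ∘ v) := fun v => hM _
  have hσ0 : σ.symm ∘ (0 : Vm) = 0 := funext fun k => map_zero σ.symm
  have hge : sact g σ (se i) = N • se i := by
    rw [hsact, comp_se, hL, projW_se, hσ0, hA0, sf_se_sff,
      show sf (se i : Vm) (se i) = 0 from form_self _]
    simp
  have hgf : sact g σ (sff i) = sff i := by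
    rw [hsact, comp_sff, hL, projW_sff, hσ0, hA0, sf_se_sff,
      show sf (sff i : Vm) (sff i) = 0 from form_self _]
    simp
  have hgW : ∀ z ∈ Wsub i, sact g σ z = A z := by
    intro z hz
    have hz' := comp_mem_W σ hz
    rw [hsact, hL, projW_of_mem hz', (W_perp hz').1, (W_perp hz').2.2.1]
    simp [show σ.symm ∘ (σ ∘ z) = z from funext fun k => σ.symm_apply_apply (z k)]
  refine ⟨g, σ, ⟨?_, ?_⟩, ?_, ?_⟩
  · rw [Tb_sact hN0 hgc, hge, Tb_smul _ hN0]
  · rw [Tb_sact hN0 hgc, hgf]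
  · intro w hw t
    rw [aut_eich hN0 hgc t (sf_zero_right w), hgW w hw, sact_zero, smul_zero]
    rcases eq_or_ne w 0 with rfl | hw0
    · have h0 : ∀ s : F, eich (0 : Vm) 0 s = 1 := fun s => eq_of_act fun x => by
        rw [act_eich_zero, smul_zero, add_zero, act_one]
      rw [hA0, h0, h0, map_one, map_one]
    · exact hψ' w hw hw0 t
  · intro z hz a
    obtain ⟨b, hb⟩ := hA z hz a
    refine ⟨A z, b, N * N * (N⁻¹ * σ a), hAW z hz, hb, ?_⟩
    rw [aut_eich hN0 hgc a (W_perp hz).1, hge, hgW z hz,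
      eich_smul _ hN0 (by rw [sf_smul_left, sf_smul_right, (W_perp (hAW z hz)).1, mul_zero,
        mul_zero]),
      smul_smul, mul_inv_cancel₀ hN0, one_smul]

include p hm2 in
theorem aut_eq_one_of_fix {i : Fin m} {γ : MulAut Pm} (himg : HI γ) (hγ : Fix γ i)
    (hW : ∀ w ∈ Wsub i, ∀ t, γ (ps (eich w 0 t)) = ps (eich w 0 t))
    (hQ : ∀ z ∈ Wsub i, ∀ a, ∃ d, γ (ps (eich (se i) z a)) = ps (eich (se i) z d)) :
    γ = 1 := by
  classical
  have he := se_ne_zero (F := F) i
  -- the mixed transvections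
  have hmix : ∀ w ∈ Wsub i, w ≠ 0 → ∀ t : F, t ≠ 0 →
      γ (ps (eich (se i) (t • w) t)) = ps (eich (se i) (t • w) t) := by
    intro w hw hw0 t ht
    have htw := (Wsub i).smul_mem t hw
    obtain ⟨d, hd⟩ := hQ _ htw t
    have hsplit : eich (se i) (t • w) d = eich (se i) 0 (d - t) * eich (se i) (t • w) t := by
      rw [eich_mul _ _ (sf_zero_right _) (W_perp htw).1, zero_add, sf_zero_left, add_zero,
        sub_add_cancel]
    have hcen : sf (se i) (se i + w) = 0 := by
      rw [sf_add_right, show sf (se i : Vm) (se i) = 0 from form_self _, (W_perp hw).1, add_zero]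
    obtain ⟨x, hx, hwx⟩ := exists_W_ne hw hw0
    have hne : se i + w ≠ 0 := fun h0 => by
      have h1 := congrArg (fun v => sf v (sff i)) h0
      simp [sf_add_left, sf_se_sff, (W_perp hw).2.2.1, sf_zero_left] at h1
    obtain ⟨v, -, hv⟩ := himg _ hne
    obtain ⟨s, hs⟩ : γ (ps (eich (se i + w) 0 t)) ∈ (Tb v : Set Pm) :=
      hv ▸ ⟨_, mem_Tb _ _, rfl⟩
    rw [trans_add_eq (W_perp hw).1, map_mul, map_mul, hd, hW w hw t, ← map_mul, hsplit,
      mul_assoc, ← trans_add_eq (W_perp hw).1] at hs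
    have h1 : PEl p (eich (se i) 0 (d - t) * eich (se i + w) 0 t) := by
      refine ⟨1, ?_⟩
      rw [pow_one, (show Commute (eich (se i) 0 (d - t)) (eich (se i + w) 0 t) from
        trans_comm hcen (d - t) t).mul_pow, eich_zero_pow, eich_zero_pow, CharP.cast_eq_zero,
        zero_mul, zero_mul, eich_zero_zero, eich_zero_zero, one_mul]
    have h3 := pElem_inj h1 (PEl_eich (p := p) s (sf_zero_right v)) hs
    have hact : ∀ y, (t * sf (se i + w) y) • (se i + w) + ((d - t) * sf (se i) y) • se i =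
        (s * sf v y) • v := fun y => by
      have h4 := congrArg (fun g => act g y) h3
      simp only [act_mul, act_eich_zero, sf_add_right, sf_smul_right, hcen, mul_zero,
        add_zero] at h4
      rw [add_assoc] at h4
      exact add_left_cancel h4
    have hI := hact (sff i)
    have hII := hact x
    simp only [sf_add_left, sf_se_sff, (W_perp hw).2.2.1, (W_perp hx).1, zero_add, add_zero,
      mul_one, mul_zero, zero_smul] at hI hII
    set c₁ := s * sf v (sff i)
    set c₂ := s * sf v x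
    have h5 : c₂ • (t • (se i + w) + (d - t) • se i) = c₁ • ((t * sf w x) • (se i + w)) := by
      rw [hI, hII, smul_smul, smul_smul, mul_comm]
    have hc₂ : c₂ ≠ 0 := fun h0 => by
      rw [h0, zero_smul, smul_eq_zero] at hII
      exact hII.elim (mul_ne_zero ht hwx) hne
    have h6 := congrArg (fun u => sf u x) h5
    simp only [sf_smul_left, sf_add_left, (W_perp hx).1, zero_add, mul_zero, add_zero] at h6
    have h7 : c₂ = c₁ * sf w x := mul_right_cancel₀ (mul_ne_zero ht hwx) (by linear_combination h6)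
    have h8 : (c₂ * (d - t)) • (se i : Vm) = 0 := by
      rw [mul_smul]
      have h9 : c₁ • ((t * sf w x) • (se i + w)) = c₂ • (t • (se i + w)) := by
        rw [smul_smul, smul_smul, h7]; congr 1; ring
      rw [h9, smul_add] at h5
      exact add_eq_left.mp h5
    rw [hd, sub_eq_zero.mp ((mul_eq_zero.mp ((smul_eq_zero.mp h8).resolve_right he)).resolve_left
      hc₂)]
  have hfix1 : ∀ u ∈ Wsub i, u ≠ 0 → ∀ t : F, t ≠ 0 →
      γ (ps (eich (se i) u t)) = ps (eich (se i) u t) := by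
    intro u hu hu0 t ht
    have := hmix _ ((Wsub i).smul_mem t⁻¹ hu) (smul_ne_zero (inv_ne_zero ht) hu0) t ht
    rwa [smul_smul, mul_inv_cancel₀ ht, one_smul] at this
  -- the transvections at `e`
  have hTe : ∀ c : F, γ (ps (eich (se i) 0 c)) = ps (eich (se i) 0 c) := by
    obtain ⟨u, v, hu, hv, huv⟩ := exists_W_pair (F := F) hm2 i
    have key : ∀ c : F, c ≠ 3 → γ (ps (eich (se i) 0 c)) = ps (eich (se i) 0 c) := by
      intro c hc
      set k := c - 3 with hk
      have hk0 : k ≠ 0 := sub_ne_zero.mpr hc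
      have hx := (Wsub i).smul_mem k hu
      have hxv := (Wsub i).add_mem hx hv
      have hkv : sf (k • u) v = k := by rw [sf_smul_left, huv, mul_one]
      have hx0 : k • u ≠ 0 := fun h => hk0 (by rw [← hkv, h, sf_zero_left])
      have hv0 : v ≠ 0 := fun h => hk0 (by rw [← hkv, h, sf_zero_right])
      have hxv0 : -(k • u + v) ≠ 0 := neg_ne_zero.mpr fun h => hk0 (by
        have h1 := congrArg (fun y => sf y v) h
        simpa [sf_add_left, hkv, show sf v v = 0 from form_self v, sf_zero_left] using h1)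
      have hprod : eich (se i) (k • u) 1 * eich (se i) v 1 * eich (se i) (-(k • u + v)) 1 =
          eich (se i) 0 c := by
        rw [eich_mul _ _ (W_perp hx).1 (W_perp hv).1,
          eich_mul _ _ (W_perp hxv).1 (W_perp (neg_mem hxv)).1, add_neg_cancel, hkv,
          show sf (k • u + v) (-(k • u + v)) = 0 by
            rw [← neg_one_smul F (k • u + v), sf_smul_right,
              show sf (k • u + v) (k • u + v) = 0 from form_self _, mul_zero]]
        congr 1
        rw [hk]; ring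
      rw [← hprod]
      simp only [map_mul, hfix1 _ hx hx0 1 one_ne_zero, hfix1 _ hv hv0 1 one_ne_zero,
        hfix1 _ (neg_mem hxv) hxv0 1 one_ne_zero]
    intro c
    by_cases hc : c = 3
    swap
    · exact key c hc
    obtain ⟨d, hd⟩ : γ (ps (eich (se i) 0 c)) ∈ (Tb (se i) : Set Pm) :=
      hγ.1 ▸ ⟨_, mem_Tb _ _, rfl⟩
    rw [hd]
    by_contra hne
    have hd3 : d ≠ 3 := fun h => hne (by rw [h, hc])
    exact hne (γ.injective ((key d hd3).trans hd.symm))
  have hQfix : ∀ z ∈ Wsub i, ∀ a, γ (ps (eich (se i) z a)) = ps (eich (se i) z a) := by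
    intro z hz a
    rcases eq_or_ne z 0 with rfl | hz0
    · exact hTe a
    · have hsplit : eich (se i) z a = eich (se i) z 1 * eich (se i) 0 (a - 1) := by
        rw [eich_mul _ _ (W_perp hz).1 (sf_zero_right _), add_zero, sf_zero_right, add_zero,
          add_sub_cancel]
      rw [hsplit, map_mul, map_mul, hfix1 z hz hz0 1 one_ne_zero, hTe]
  -- every point is fixed
  have hall : ∀ v : Vm, v ≠ 0 → γ '' Tb v = Tb v := by
    intro v hv
    by_cases hev : sf (se i) v = 0
    · set w := projW i v with hw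
      set a := sf v (sff i) with ha
      have hwW : w ∈ Wsub i := projW_mem i v
      have hveq : v = a • se i + w := by
        rw [hw, projW, hev, zero_smul]; abel
      rcases eq_or_ne a 0 with ha0 | ha0
      · rw [ha0, zero_smul, zero_add] at hveq
        rw [hveq]
        ext x
        constructor
        · rintro ⟨_, ⟨t, rfl⟩, rfl⟩
          exact ⟨t, hW w hwW t⟩
        · rintro ⟨t, rfl⟩
          exact ⟨_, mem_Tb w t, hW w hwW t⟩
      · have hvs : v = a • (se i + a⁻¹ • w) := by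
          rw [smul_add, smul_smul, mul_inv_cancel₀ ha0, one_smul, ← hveq]
        have hu := (Wsub i).smul_mem a⁻¹ hwW
        have key : ∀ t : F, γ (ps (eich (se i + a⁻¹ • w) 0 t)) =
            ps (eich (se i + a⁻¹ • w) 0 t) := fun t => by
          rw [trans_add_eq (W_perp hu).1, map_mul, map_mul, hW _ hu t,
            hQfix _ ((Wsub i).smul_mem t hu)]
        rw [hvs, Tb_smul _ ha0]
        ext x
        constructor
        · rintro ⟨_, ⟨t, rfl⟩, rfl⟩
          exact ⟨t, key t⟩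
        · rintro ⟨t, rfl⟩
          exact ⟨_, mem_Tb _ t, key t⟩
    · set u := (sf (se i) v)⁻¹ • v with hu
      have heu : sf (se i) u = 1 := by rw [hu, sf_smul_right, inv_mul_cancel₀ hev]
      have hz := projW_mem i u
      have hEf : act (eich (se i) (projW i u) (sf u (sff i))) (sff i) = u := by
        rw [act_eich _ (W_perp hz).1, sf_se_sff, (W_perp hz).2.2.1]
        conv_rhs => rw [eq_projW_add i u, heu]
        module
      have hvu : v = sf (se i) v • u := by
        rw [hu, smul_smul, mul_inv_cancel₀ hev, one_smul]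
      rw [hvu, Tb_smul _ hev, ← hEf, ← Tb_conj, Set.image_image]
      conv_rhs => rw [← hγ.2, Set.image_image]
      refine Set.image_congr' fun x => ?_
      rw [MulAut.conj_apply, MulAut.conj_apply, map_mul, map_mul, map_inv, hQfix _ hz]
  -- conclude
  ext y
  obtain ⟨g, rfl⟩ := ps_surjective y
  obtain ⟨g', hg'⟩ := ps_surjective (γ (ps g))
  rw [← hg', MulAut.one_apply]
  refine (inv_mul_eq_one.mp ?_).symm
  rw [← map_inv, ← map_mul, ps_eq_one]
  refine mem_center_of_fixes_lines (by omega) fun v hv => ?_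
  have h1 : Tb (act g' v) = (Tb (act g v) : Set Pm) := by
    rw [← Tb_conj, hg', ← hall _ (act_ne_zero hv g), ← Tb_conj, Set.image_image]
    conv_lhs => rw [← hall v hv, Set.image_image]
    refine Set.image_congr' fun x => ?_
    rw [MulAut.conj_apply, MulAut.conj_apply, map_mul, map_mul, map_inv]
  obtain ⟨c, hc, hgv⟩ := Tb_inj p (act_ne_zero hv g) h1
  refine ⟨c⁻¹, ?_⟩
  rw [act_mul]
  apply act_injective g
  rw [act_act_inv, act_smul, hgv, smul_smul, inv_mul_cancel₀ hc, one_smul]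

end Main

/-- An automorphism permuting the transvection groups is semilinear. -/
theorem aut_decomp_of_HI (hm2 : 2 ≤ m) (α : MulAut Pm) (himg : HI α) :
    ∃ (g : Hm) (σ : F ≃+* F), α = cS g * fS σ := by
  classical
  obtain ⟨p, _⟩ := CharP.exists F
  have : Fact p.Prime := ⟨CharP.char_is_prime F p⟩
  let i : Fin m := ⟨0, by omega⟩
  have he := se_ne_zero (F := F) i
  obtain ⟨we, hwe, hTe⟩ := himg _ he
  obtain ⟨wf, hwf, hTf⟩ := himg _ (sff_ne_zero (F := F) i)
  have hne : sf we wf ≠ 0 := by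
    intro h0
    have h1 := (Tb_commute_iff p hwe).mpr h0
    rw [← hTe, ← hTf] at h1
    have h3 : sf (se i : Vm) (sff i) = 0 := (Tb_commute_iff p he).mp fun x hx y hy =>
      α.injective (by rw [map_mul, map_mul]; exact h1 _ ⟨x, hx, rfl⟩ _ ⟨y, hy, rfl⟩)
    rw [sf_se_sff] at h3
    exact one_ne_zero h3
  obtain ⟨A, -, hAe, hAf⟩ := Cfsg.Agent.Lead.Symp.exists_pair (sf_se_sff (F := F) i)
    (show sf we ((sf we wf)⁻¹ • wf) = 1 by rw [sf_smul_right, inv_mul_cancel₀ hne])
  set g₀ : Gm := A with hg₀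
  set β := (MulAut.conj (ps g₀ : Pm))⁻¹ * α with hβ
  have hfix : Fix β i := by
    have key : ∀ v w : Vm, α '' Tb v = Tb w → Tb (act g₀ v) = (Tb w : Set Pm) →
        β '' Tb v = Tb v := by
      intro v w h1 h3
      have h4 : β '' Tb v = ⇑((MulAut.conj (ps g₀ : Pm))⁻¹ : MulAut Pm) '' (α '' Tb v) := by
        rw [Set.image_image]; rfl
      rw [h4, h1, ← h3, ← Tb_conj, Set.image_image]
      simp only [MulAut.inv_apply_self, Set.image_id']
    exact ⟨key _ we hTe (by rw [show act g₀ (se i) = we from hAe]),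
      key _ wf hTf (by
        rw [show act g₀ (sff i) = _ from hAf, Tb_smul _ (inv_ne_zero hne)])⟩
  have hβHI : HI β := by
    rw [hβ, ← map_inv, ← map_inv]
    exact HI_mul (HI_conj _) himg
  obtain ⟨g, σ, hg, hgW, hgQ⟩ := exists_semilinear p hm2 hβHI hfix
  refine ⟨toS g₀ * g, σ, ?_⟩
  set T := (cS g * fS σ : MulAut Pm) with hT
  set γ := T⁻¹ * β with hγ
  have hγ1 : γ = 1 := by
    refine aut_eq_one_of_fix p hm2 (HI_mul (HI_sem_inv g σ) hβHI) ⟨?_, ?_⟩ ?_ ?_ (i := i)
    · rw [hγ, MulAut.coe_mul, Set.image_comp, hfix.1, image_inv hg.1]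
    · rw [hγ, MulAut.coe_mul, Set.image_comp, hfix.2, image_inv hg.2]
    · intro w hw t
      rw [hγ, MulAut.mul_apply, hgW w hw t, MulAut.inv_apply_self]
    · intro z hz a
      obtain ⟨w, b, b', hw, h1, h3⟩ := hgQ z hz a
      obtain ⟨x, ⟨t, rfl⟩, hx⟩ : (ps (eich (se i) 0 (b - b')) : Pm) ∈ T '' Tb (se i) := by
        rw [hg.1]; exact mem_Tb _ _
      refine ⟨a + t, ?_⟩
      apply T.injective
      change T (T⁻¹ (β (ps (eich (se i) z a)))) = _
      rw [MulAut.apply_inv_self, h1]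
      have hsplit : eich (se i) z (a + t) = eich (se i) z a * eich (se i) 0 t := by
        rw [eich_mul _ _ (W_perp hz).1 (sf_zero_right _), add_zero, sf_zero_right, add_zero]
      rw [hsplit, map_mul, map_mul, h3, hx, ← map_mul]
      congr 1
      rw [eich_mul _ _ (W_perp hw).1 (sf_zero_right _), add_zero, sf_zero_right, add_zero,
        add_sub_cancel]
  rw [map_mul, cS_toS, mul_assoc, ← hT, inv_mul_eq_one.mp hγ1, hβ, mul_inv_cancel_left]

/-- Every automorphism of `PSp_{2m}(q)` is semilinear, provided the transvection groups are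
permuted. -/
theorem aut_decomp (hm2 : 2 ≤ m) (himg : HImg F m) (α : MulAut Pm) :
    ∃ (g : Hm) (σ : F ≃+* F), α = cS g * fS σ :=
  aut_decomp_of_HI hm2 α (himg α)

end Cfsg.Agent.Small.PSpn
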