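import Mathlib
import Cfsg.Agent.Lib.Small.PSpn.Aut

/-!
`Sp_{2m}(q)` is generated by transvections, is perfect and has simple central quotient for
`m ≥ 2`, `(m, q) ≠ (2, 2)`.
-/

set_option autoImplicit false
set_option linter.unusedSectionVars false

namespace Cfsg.Agent.Small.PSpn

open Matrix
open scoped commutatorElement
open Cfsg.Agent.Lead.Symp (form_eq form_self form_swap)

variable {F : Type*} [Field F] [Fintype F] {m : ℕ}

local notation "Vm" => Fin m ⊕ Fin m → F
local notation "Gm" => Matrix.symplecticGroup (Fin m) F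
local notation "Pm" => Cfsg.PSp m F

variable (F m) in
/-- The subgroup generated by the transvections. -/
noncomputable def TG : Subgroup (Matrix.symplecticGroup (Fin m) F) :=
  Subgroup.closure {g | ∃ (v : Fin m ⊕ Fin m → F) (t : F), g = eich v 0 t}

theorem trans_mem_TG (v : Vm) (t : F) : eich v 0 t ∈ TG F m := Subgroup.subset_closure ⟨v, t, rfl⟩

/-- A non-degenerate subspace. -/
def NDeg (U : Submodule F Vm) : Prop := ∀ u ∈ U, u ≠ 0 → ∃ x ∈ U, sf u x ≠ 0

theorem sf_ne_swap {a b : Vm} (h : sf b a ≠ 0) : sf a b ≠ 0 := by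
  rw [sf, form_swap, ← sf]; exact neg_ne_zero.mpr h

theorem exists_common (U : Submodule F Vm) (hU : NDeg U) {u v : Vm} (hu : u ∈ U) (hv : v ∈ U)
    (hu0 : u ≠ 0) (hv0 : v ≠ 0) : ∃ z ∈ U, sf u z ≠ 0 ∧ sf v z ≠ 0 := by
  obtain ⟨x, hx, hux⟩ := hU u hu hu0
  obtain ⟨y, hy, hvy⟩ := hU v hv hv0
  by_cases h1 : sf v x = 0
  · by_cases h3 : sf u y = 0
    · refine ⟨x + y, U.add_mem hx hy, ?_, ?_⟩
      · rwa [sf_add_right, h3, add_zero]
      · rwa [sf_add_right, h1, zero_add]
    · exact ⟨y, hy, h3, hvy⟩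
  · exact ⟨x, hx, hux, h1⟩

/-- The symmetric difference step. -/
theorem exists_step_in (U : Submodule F Vm) {u u' : Vm} (hu : u ∈ U) (hu' : u' ∈ U)
    (h : sf u' u ≠ 0) :
    ∃ g ∈ TG F m, act g u = u' ∧ (∀ x, sf (u' - u) x = 0 → act g x = x) ∧
      ∀ x ∈ U, act g x ∈ U := by
  refine ⟨eich (u' - u) 0 (sf u' u)⁻¹, trans_mem_TG _ _, ?_, fun x hx => ?_, fun x hx => ?_⟩
  · rw [act_eich_zero, sf_sub_left, show sf u u = 0 from form_self u, sub_zero, inv_mul_cancel₀ h,
      one_smul, add_sub_cancel]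
  · rw [act_eich_zero, hx, mul_zero, zero_smul, add_zero]
  · rw [act_eich_zero]
    exact U.add_mem hx (U.smul_mem _ (U.sub_mem hu' hu))

theorem exists_pair_in (U : Submodule F Vm) (hU : NDeg U) {u v u' v' : Vm} (hu : u ∈ U) (hv : v ∈ U)
    (hu' : u' ∈ U) (hv' : v' ∈ U) (h : sf u v = 1) (h' : sf u' v' = 1) :
    ∃ g ∈ TG F m, act g u = u' ∧ act g v = v' ∧
      ∀ x, (∀ y ∈ U, sf y x = 0) → act g x = x := by
  have hu0 : u ≠ 0 := fun h0 => by rw [h0, sf_zero_left] at h; exact zero_ne_one h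
  have hu'0 : u' ≠ 0 := fun h0 => by rw [h0, sf_zero_left] at h'; exact zero_ne_one h'
  obtain ⟨z, hz, hzu, hzu'⟩ := exists_common U hU hu hu' hu0 hu'0
  obtain ⟨A₁, hA₁, hA₁u, hA₁x, hA₁U⟩ := exists_step_in U hu hz (sf_ne_swap hzu)
  obtain ⟨A₂, hA₂, hA₂z, hA₂x, hA₂U⟩ := exists_step_in U hz hu' hzu'
  set A := A₂ * A₁ with hA
  have hAT : A ∈ TG F m := mul_mem hA₂ hA₁
  have hAu : act A u = u' := by rw [hA, act_mul, hA₁u, hA₂z]
  have hAfix : ∀ x, (∀ y ∈ U, sf y x = 0) → act A x = x := fun x hx => by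
    rw [hA, act_mul, hA₁x x (hx _ (U.sub_mem hz hu)), hA₂x x (hx _ (U.sub_mem hu' hz))]
  set w := act A v with hw
  have hwU : w ∈ U := by rw [hw, hA, act_mul]; exact hA₂U _ (hA₁U v hv)
  have hw1 : sf u' w = 1 := by rw [← hAu, hw, sf_act, h]
  suffices ∃ B ∈ TG F m, act B u' = u' ∧ act B w = v' ∧
      ∀ x, (∀ y ∈ U, sf y x = 0) → act B x = x by
    obtain ⟨B, hB, hB1, hB2, hB3⟩ := this
    exact ⟨B * A, mul_mem hB hAT, by rw [act_mul, hAu, hB1], by rw [act_mul, ← hw, hB2],
      fun x hx => by rw [act_mul, hAfix x hx, hB3 x hx]⟩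
  have hfix : ∀ a b : Vm, sf u' a = 1 → sf u' b = 1 → sf (b - a) u' = 0 := fun a b ha hb => by
    rw [sf, form_swap, ← sf, sf_sub_right, ha, hb, sub_self, neg_zero]
  by_cases h0 : sf v' w = 0
  · have hm : sf u' (u' + w) = 1 := by
      rw [sf_add_right, show sf u' u' = 0 from form_self u', hw1, zero_add]
    have e2 : sf (u' + w) w ≠ 0 := by
      rw [sf_add_left, show sf w w = 0 from form_self w, hw1, add_zero]; exact one_ne_zero
    have e3 : sf v' (u' + w) ≠ 0 := by
      rw [sf_add_right, h0, add_zero]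
      exact sf_ne_swap (by rw [h']; exact one_ne_zero)
    obtain ⟨B, hB, hBw, hBfix, -⟩ := exists_step_in U hwU (U.add_mem hu' hwU) e2
    obtain ⟨C, hC, hCw, hCfix, -⟩ := exists_step_in U (U.add_mem hu' hwU) hv' e3
    refine ⟨C * B, mul_mem hC hB, ?_, ?_, fun x hx => ?_⟩
    · rw [act_mul, hBfix u' (hfix _ _ hw1 hm), hCfix u' (hfix _ _ hm h')]
    · rw [act_mul, hBw, hCw]
    · rw [act_mul, hBfix x (hx _ (U.sub_mem (U.add_mem hu' hwU) hwU)),
        hCfix x (hx _ (U.sub_mem hv' (U.add_mem hu' hwU)))]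
  · obtain ⟨B, hB, hBw, hBfix, -⟩ := exists_step_in U hwU hv' h0
    exact ⟨B, hB, hBfix u' (hfix _ _ hw1 h'), hBw, fun x hx => hBfix x (hx _ (U.sub_mem hv' hwU))⟩

/-- Vectors supported on the pairs in `S`. -/
def USub (S : Finset (Fin m)) : Submodule F Vm where
  carrier := {v | ∀ i, i ∉ S → v (.inl i) = 0 ∧ v (.inr i) = 0}
  add_mem' ha hb i hi := ⟨by simp [(ha i hi).1, (hb i hi).1], by simp [(ha i hi).2, (hb i hi).2]⟩
  zero_mem' _ _ := ⟨rfl, rfl⟩
  smul_mem' c v hv i hi := ⟨by simp [(hv i hi).1], by simp [(hv i hi).2]⟩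

theorem NDeg_USub (S : Finset (Fin m)) : NDeg (USub (F := F) S) := by
  classical
  intro u hu hu0
  obtain ⟨y, hy⟩ := Cfsg.Agent.Lead.Symp.exists_form_ne hu0
  refine ⟨fun k => if Sum.elim id id k ∈ S then y k else 0, fun i hi => by simp [hi], ?_⟩
  have : sf u (fun k => if Sum.elim id id k ∈ S then y k else 0) = sf u y := by
    simp only [sf, form_eq, Sum.elim_inl, Sum.elim_inr, id]
    refine Finset.sum_congr rfl fun i _ => ?_
    by_cases hi : i ∈ S
    · simp [hi]
    · simp [hi, (hu i hi).1, (hu i hi).2]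
  rw [this]
  exact hy

theorem sp_generated : TG F m = ⊤ := by
  classical
  refine eq_top_iff.mpr fun g _ => ?_
  suffices h : ∀ (S : Finset (Fin m)) (g : Gm),
      (∀ i, i ∉ S → act g (se i) = se i ∧ act g (sff i) = sff i) → g ∈ TG F m from
    h Finset.univ g fun i hi => absurd (Finset.mem_univ i) hi
  intro S
  induction S using Finset.strongInduction with
  | H S ih =>
  intro g hg
  rcases S.eq_empty_or_nonempty with rfl | ⟨i, hi⟩
  · convert (TG F m).one_mem
    apply Subtype.ext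
    ext a b
    have : act g (Pi.single b 1) a = (Pi.single b 1 : Vm) a := by
      rcases b with j | j
      · exact congrFun (hg j (Finset.notMem_empty j)).2 a
      · exact congrFun (hg j (Finset.notMem_empty j)).1 a
    rw [act, Matrix.mulVec_single_one, Matrix.col_apply] at this
    rw [this, OneMemClass.coe_one, Matrix.one_apply, Pi.single_apply]
  have hmem : ∀ j, j ∈ S → (se j : Vm) ∈ USub S ∧ (sff j : Vm) ∈ USub S := fun j hj => by
    constructor <;> intro k hk <;> simp [se, sff, show k ≠ j from fun h => hk (h ▸ hj)]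
  have himg : ∀ x ∈ USub (F := F) S, act g x ∈ USub S := by
    intro x hx k hk
    obtain ⟨h1, h2⟩ := hg k hk
    constructor
    · rw [← sf_se_left k (act g x), ← h1, sf_act, sf_se_left]; exact (hx k hk).1
    · rw [← sf_sff_right k (act g x), ← h2, sf_act, sf_sff_right]; exact (hx k hk).2
  obtain ⟨A, hA, hAu, hAv, hAfix⟩ := exists_pair_in (USub S) (NDeg_USub S)
    (himg _ (hmem i hi).1) (himg _ (hmem i hi).2) (hmem i hi).1 (hmem i hi).2
    (by rw [sf_act, sf_se_sff]) (sf_se_sff i)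
  have hperp : ∀ k, k ∉ S → ∀ y ∈ USub (F := F) S, sf y (se k) = 0 ∧ sf y (sff k) = 0 :=
    fun k hk y hy => ⟨by rw [sf, form_swap, ← sf, sf_se_left, (hy k hk).1, neg_zero],
      by rw [sf_sff_right, (hy k hk).2]⟩
  have h1 : A * g ∈ TG F m := by
    refine ih (S.erase i) (Finset.erase_ssubset hi) _ fun k hk => ?_
    rcases eq_or_ne k i with rfl | hki
    · exact ⟨by rw [act_mul, hAu], by rw [act_mul, hAv]⟩
    · have hkS : k ∉ S := fun h => hk (Finset.mem_erase.mpr ⟨hki, h⟩)
      exact ⟨by rw [act_mul, (hg k hkS).1, hAfix _ fun y hy => (hperp k hkS y hy).1],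
        by rw [act_mul, (hg k hkS).2, hAfix _ fun y hy => (hperp k hkS y hy).2]⟩
  simpa using (TG F m).mul_mem ((TG F m).inv_mem hA) h1

/-- `Sp_{2m}(q)` is perfect. -/
theorem sp_commutator_eq_top (hm2 : 2 ≤ m) (hex : m = 2 → 3 ≤ Fintype.card F) :
    commutator Gm = ⊤ := by
  classical
  let i : Fin m := ⟨0, by omega⟩
  set C := commutator Gm with hC
  have hbase : ∀ w ∈ Wsub (F := F) i, w ≠ 0 → ∀ s, eich (se i) (s • w) (-s) ∈ C := by
    intro w hw hw0 s
    obtain ⟨x, hx, hwx⟩ := exists_W_ne hw hw0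
    set z := (sf w x)⁻¹ • x with hz
    have hzW : z ∈ Wsub i := (Wsub i).smul_mem _ hx
    have hwz : sf w z = 1 := by rw [hz, sf_smul_right, inv_mul_cancel₀ hwx]
    have hnW : -z ∈ Wsub i := neg_mem hzW
    have hzs := (Wsub i).add_mem hzW ((Wsub i).smul_mem s hw)
    have hinv : (eich (se i) z 0)⁻¹ = eich (se i) (-z) (0 : F) := inv_eq_of_mul_eq_one_right (by
      rw [eich_mul _ _ (W_perp hzW).1 (W_perp hnW).1, add_neg_cancel, ← neg_one_smul F z,
        sf_smul_right, show sf z z = 0 from form_self z, mul_zero, add_zero, add_zero,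
        eich_zero_zero])
    have h1 : ⁅eich w 0 s, eich (se i) z (0 : F)⁆ = eich (se i) (s • w) (-s) := by
      rw [commutatorElement_def, eich_conj _ _ (W_perp hzW).1, hinv, act_eich_zero, act_eich_zero,
        (W_perp hw).2.1, hwz, mul_zero, zero_smul, add_zero, mul_one,
        eich_mul _ _ (W_perp hzs).1 (W_perp hnW).1]
      have hval : sf (z + s • w) (-z) = -s := by
        rw [← neg_one_smul F z, sf_smul_right, sf_add_left,
          show sf z z = 0 from form_self z, sf_smul_left, hwz]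
        ring
      rw [hval]
      congr 1
      · abel
      · ring
    rw [← h1]
    exact Subgroup.commutator_mem_commutator (Subgroup.mem_top _) (Subgroup.mem_top _)
  have hthree : ∀ x ∈ Wsub (F := F) i, ∀ v ∈ Wsub i, x ≠ 0 → v ≠ 0 → x + v ≠ 0 →
      eich (se i) 0 (sf x v - 3) ∈ C := by
    intro x hx v hv hx0 hv0 hxv0
    have hn : -(x + v) ∈ Wsub i := neg_mem ((Wsub i).add_mem hx hv)
    have h1 := hbase x hx hx0 1
    have h2 := hbase v hv hv0 1
    have h3 := hbase _ hn (neg_ne_zero.mpr hxv0) 1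
    rw [one_smul] at h1 h2 h3
    have := C.mul_mem (C.mul_mem h1 h2) h3
    rw [eich_mul _ _ (W_perp hx).1 (W_perp hv).1,
      eich_mul _ _ (W_perp ((Wsub i).add_mem hx hv)).1 (W_perp hn).1, add_neg_cancel,
      ← neg_one_smul F (x + v), sf_smul_right, show sf (x + v) (x + v) = 0 from form_self _,
      mul_zero, add_zero] at this
    convert this using 2
    ring
  obtain ⟨u, v, hu, hv, huv⟩ := exists_W_pair (F := F) hm2 i
  have hk : ∀ c : F, c ≠ -3 → eich (se i) 0 c ∈ C := by
    intro c hc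
    have hk0 : c + 3 ≠ 0 := fun h => hc (eq_neg_of_add_eq_zero_left h)
    have hxv : sf ((c + 3) • u) v = c + 3 := by rw [sf_smul_left, huv, mul_one]
    have h1 := hthree _ ((Wsub i).smul_mem (c + 3) hu) v hv
      (fun h => hk0 (by rw [← hxv, h, sf_zero_left]))
      (fun h => hk0 (by rw [← hxv, h, sf_zero_right]))
      (fun h => hk0 (by
        have h' := congrArg (fun y => sf y v) h
        simpa [sf_add_left, hxv, show sf v v = 0 from form_self v, sf_zero_left] using h'))
    rwa [hxv, add_sub_cancel_right] at h1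
  have hTe : ∀ c : F, eich (se i) 0 c ∈ C := by
    intro c
    by_cases hc : c = -3
    swap
    · exact hk c hc
    rcases eq_or_lt_of_le hm2 with hm | hm
    · obtain ⟨c₁, hc₁, hc₁'⟩ : ∃ c₁ : F, c₁ ≠ 0 ∧ c₁ ≠ -3 := by
        have : ({0, -3} : Finset F).card < (Finset.univ : Finset F).card := by
          rw [Finset.card_univ]
          exact lt_of_le_of_lt Finset.card_le_two (hex hm.symm)
        obtain ⟨c₁, -, h⟩ := Finset.exists_mem_notMem_of_card_lt_card this
        exact ⟨c₁, fun h' => h (by simp [h']), fun h' => h (by simp [h'])⟩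
      have := C.mul_mem (hk c₁ hc₁') (hk (c - c₁) (fun h => hc₁ (by rw [hc] at h; linear_combination -h)))
      rwa [eich_mul _ _ (sf_zero_right _) (sf_zero_right _), add_zero, sf_zero_left, add_zero,
        add_sub_cancel] at this
    · let k : Fin m := ⟨1, by omega⟩
      let l : Fin m := ⟨2, by omega⟩
      have hkW : (se k : Vm) ∈ Wsub i ∧ (se l : Vm) ∈ Wsub i :=
        ⟨⟨by simp [se], by simp [se, k, i]⟩, ⟨by simp [se], by simp [se, l, i]⟩⟩
      have h1 := hthree _ hkW.1 _ hkW.2 (se_ne_zero k) (se_ne_zero l) (fun h => by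
        have h' := congrFun h (.inr k)
        simp [se, k, l] at h')
      rw [show sf (se k : Vm) (se l) = 0 by rw [sf_se_left]; simp [se], zero_sub, ← hc] at h1
      exact h1
  refine eq_top_iff.mpr ?_
  rw [← sp_generated (F := F) (m := m), TG, Subgroup.closure_le]
  rintro _ ⟨w, t, rfl⟩
  rcases eq_or_ne w 0 with rfl | hw
  · have : eich (0 : Vm) 0 t = 1 := eq_of_act fun x => by
      rw [act_eich_zero, smul_zero, add_zero, act_one]
    rw [this]
    exact C.one_mem
  obtain ⟨g, hg⟩ := exists_act_eq (se_ne_zero (F := F) i) hw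
  have h1 := (inferInstance : (commutator Gm).Normal).conj_mem _ (hTe t) g
  rwa [eich_conj _ _ (sf_zero_right _), hg, act_zero] at h1

/-- Orthogonal independent pairs form one orbit. -/
theorem exists_move_orth {i k : Fin m} (hki : k ≠ i) {e z : Vm} (he : e ≠ 0) (hez : sf e z = 0)
    (hline : ∀ c : F, z ≠ c • e) :
    ∃ g : Gm, act g (se i) = e ∧ act g (se k) = z := by
  classical
  have hkW : (se k : Vm) ∈ Wsub i ∧ (sff k : Vm) ∈ Wsub i :=
    ⟨⟨by simp [se], by simp [se, hki.symm]⟩, ⟨by simp [sff, hki.symm], by simp [sff]⟩⟩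
  obtain ⟨g₁, hg₁⟩ := exists_act_eq (se_ne_zero (F := F) i) he
  set z₁ := act g₁⁻¹ z with hz₁
  have hgz : act g₁ z₁ = z := act_act_inv g₁ z
  have hez₁ : sf (se i) z₁ = 0 := by rw [← sf_act g₁, hg₁, hgz]; exact hez
  set w := projW i z₁ with hw
  have hzw : z₁ = w + sf z₁ (sff i) • se i := by rw [hw, projW, hez₁, zero_smul]; abel
  have hw0 : w ≠ 0 := fun h0 => hline (sf z₁ (sff i)) (by
    conv_lhs => rw [← hgz, hzw, h0, zero_add, act_smul, hg₁])
  obtain ⟨g₂, -, hg₂u, -, hg₂fix⟩ : ∃ g ∈ TG F m, act g (se k) = w ∧ True ∧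
      ∀ x, (∀ y ∈ Wsub i, sf y x = 0) → act g x = x := by
    have hnd : NDeg (Wsub (F := F) i) := fun u hu hu0 => exists_W_ne hu hu0
    obtain ⟨x, hx, hwx⟩ := exists_W_ne (projW_mem i z₁) hw0
    obtain ⟨g, hg, hgu, -, hgfix⟩ := exists_pair_in (Wsub i) hnd hkW.1 hkW.2 (projW_mem i z₁)
      ((Wsub i).smul_mem (sf w x)⁻¹ hx) (sf_se_sff k)
      (by rw [sf_smul_right, inv_mul_cancel₀ hwx])
    exact ⟨g, hg, hgu, trivial, hgfix⟩
  have hg₂e : act g₂ (se i) = se i := hg₂fix _ fun y hy => (W_perp hy).2.1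
  have hy : sf (se i) ((-sf z₁ (sff i)) • sff k : Vm) = 0 := by
    rw [sf_smul_right, (W_perp hkW.2).1, mul_zero]
  set g₃ := eich (se i) ((-sf z₁ (sff i)) • sff k : Vm) (0 : F) with hg₃
  refine ⟨g₁ * g₂ * g₃, ?_, ?_⟩
  · rw [act_mul, act_mul, hg₃, act_eich_self _ hy, hg₂e, hg₁]
  · rw [act_mul, act_mul, hg₃, act_eich _ hy, (W_perp hkW.1).1, zero_smul, add_zero, sf_smul_left,
      sf_sff_se, mul_zero, zero_add, neg_mul_neg, mul_one, act_add, act_smul, hg₂u, hg₂e, ← hzw,
      hgz]

/-- The quotient by a non-central normal subgroup of `Sp_{2m}(q)` is commutative. -/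
theorem sp_normal_commute (hm2 : 2 ≤ m) (N : Subgroup Gm) [N.Normal]
    (hN : ¬ N ≤ Subgroup.center Gm) : ∀ a b : Gm ⧸ N, a * b = b * a := by
  classical
  by_cases hfix : ∀ x ∈ N, ∀ v : Vm, v ≠ 0 → ∃ c : F, act x v = c • v
  · exact absurd (fun x hx => mem_center_of_fixes_lines (by omega) (hfix x hx)) hN
  push Not at hfix
  obtain ⟨x, hx, v₀, hv₀, hu₀⟩ := hfix
  let i : Fin m := ⟨0, by omega⟩
  let k : Fin m := ⟨1, by omega⟩
  have hki : k ≠ i := by simp [k, i]
  let q : Gm →* Gm ⧸ N := QuotientGroup.mk' N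
  let τ : Vm → F → Gm ⧸ N := fun v t => q (eich v 0 t)
  have hq : ∀ y, y ∈ N → q y = 1 := fun y hy => (QuotientGroup.eq_one_iff y).mpr hy
  have hqx : q x = 1 := hq x hx
  have hpair : ∀ t, τ (act x v₀) t = τ v₀ t := fun t => by
    have h := congrArg q (eich_conj x t (sf_zero_right v₀))
    rw [act_zero, map_mul, map_mul, map_inv, hqx, one_mul, inv_one, mul_one] at h
    exact h.symm
  have hequiv : ∀ (g : Gm) (a b : Vm), (∀ t, τ a t = τ b t) → ∀ t, τ (act g a) t = τ (act g b) t := by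
    intro g a b hab t
    have ha := congrArg q (eich_conj g t (sf_zero_right a))
    have hb := congrArg q (eich_conj g t (sf_zero_right b))
    rw [act_zero, map_mul, map_mul] at ha hb
    change q (eich (act g a) 0 t) = q (eich (act g b) 0 t)
    rw [← ha, ← hb]
    exact congrArg (fun y => q g * y * q g⁻¹) (hab t)
  have horth : ∀ a b : Vm, a ≠ 0 → sf a b = 0 → (∀ c : F, b ≠ c • a) → ∀ t, τ a t = τ b t := by
    -- first one such pair
    obtain ⟨a₁, b₁, ha₁, hab₁, hline₁, h₁⟩ : ∃ a b : Vm, a ≠ 0 ∧ sf a b = 0 ∧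
        (∀ c : F, b ≠ c • a) ∧ ∀ t, τ a t = τ b t := by
      by_cases h0 : sf v₀ (act x v₀) = 0
      · exact ⟨v₀, act x v₀, hv₀, h0, hu₀, fun t => (hpair t).symm⟩
      set k₀ := sf v₀ (act x v₀) with hk₀
      set b' := k₀⁻¹ • act x v₀ with hb'
      have hb1 : sf v₀ b' = 1 := by rw [hb', sf_smul_right, inv_mul_cancel₀ h0]
      obtain ⟨u, w, hu, hw, huw⟩ := exists_W_pair (F := F) hm2 i
      obtain ⟨A, -, hAe, hAf⟩ := Cfsg.Agent.Lead.Symp.exists_pair (sf_se_sff (F := F) i) hb1
      set y := act A u with hy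
      have hyv : sf v₀ y = 0 := by
        rw [← show act A (se i) = v₀ from hAe, hy, sf_act]; exact (W_perp hu).1
      have hy0 : y ≠ 0 := act_ne_zero (fun h => by
        rw [h, sf_zero_left] at huw; exact zero_ne_one huw) A
      have hb2 : sf v₀ (b' + y) = 1 := by rw [sf_add_right, hb1, hyv, add_zero]
      obtain ⟨B, -, hBv, hBb⟩ := Cfsg.Agent.Lead.Symp.exists_pair hb1 hb2
      have hby : sf b' y = 0 := by
        rw [← show act A (sff i) = b' from hAf, hy, sf_act]; exact (W_perp hu).2.2.2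
      have hux : act x v₀ = k₀ • b' := by
        rw [hb', smul_smul, mul_inv_cancel₀ h0, one_smul]
      refine ⟨act x v₀, act x v₀ + k₀ • y, act_ne_zero hv₀ x, ?_, ?_, fun t => ?_⟩
      · rw [sf_add_right, show sf (act x v₀) (act x v₀) = 0 from form_self _, hux, sf_smul_left,
          sf_smul_right, hby]
        ring
      · intro c hc
        have h := congrArg (fun y => sf v₀ y) hc
        simp only [sf_add_right, sf_smul_right, hyv, mul_zero, add_zero, ← hk₀] at h
        have hc1 : c = 1 := (mul_right_cancel₀ h0 (by linear_combination h)).symm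
        rw [hc1, one_smul, add_eq_left, smul_eq_zero] at hc
        exact hc.elim h0 hy0
      · have h := hequiv B _ _ hpair t
        rw [show act B v₀ = v₀ from hBv] at h
        rw [show act x v₀ + k₀ • y = act B (act x v₀) by
          rw [hux, act_smul, show act B b' = b' + y from hBb, smul_add], h, hpair]
    obtain ⟨g₁, hg₁e, hg₁k⟩ := exists_move_orth hki ha₁ hab₁ hline₁
    intro a b ha hab hline t
    obtain ⟨g, hge, hgk⟩ := exists_move_orth hki ha hab hline
    have h := hequiv (g * g₁⁻¹) _ _ h₁ t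
    rwa [act_mul, act_mul, ← hg₁e, ← hg₁k, act_inv_act, act_inv_act, hge, hgk] at h
  have hall : ∀ a b : Vm, a ≠ 0 → b ≠ 0 → ∀ t, τ a t = τ b t := by
    intro a b ha hb t
    -- a vector orthogonal to both and independent of each
    by_cases hab : sf a b = 0 ∧ ∀ c : F, b ≠ c • a
    · exact horth a b ha hab.1 hab.2 t
    obtain ⟨g, hg⟩ := exists_act_eq (se_ne_zero (F := F) i) ha
    obtain ⟨y, hay, hby, hy⟩ : ∃ y, sf a y = 0 ∧ sf b y = 0 ∧ ((∀ c : F, y ≠ c • a) ∧ ∀ c : F, y ≠ c • b) := by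
      by_cases h0 : sf a b = 0
      · obtain ⟨c, rfl⟩ : ∃ c : F, b = c • a := by
          by_contra hne
          push Not at hne
          exact hab ⟨h0, hne⟩
        have hc : c ≠ 0 := fun h => hb (by rw [h, zero_smul])
        have hkW : (se k : Vm) ∈ Wsub i := ⟨by simp [se], by simp [se, hki.symm]⟩
        have hay : sf a (act g (se k)) = 0 := by rw [← hg, sf_act]; exact (W_perp hkW).1
        have hne : ∀ d : F, act g (se k) ≠ d • a := fun d hd => by
          rw [← hg, ← act_smul] at hd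
          have := congrFun (act_injective g hd) (.inr k)
          simp [se, hki] at this
        exact ⟨act g (se k), hay, by rw [sf_smul_left, hay, mul_zero], hne,
          fun d hd => hne (d * c) (by rw [hd, smul_smul])⟩
      · obtain ⟨u, w, hu, hw, huw⟩ := exists_W_pair (F := F) hm2 i
        obtain ⟨A, -, hAe, hAf⟩ := Cfsg.Agent.Lead.Symp.exists_pair (sf_se_sff (F := F) i)
          (show sf a ((sf a b)⁻¹ • b) = 1 by rw [sf_smul_right, inv_mul_cancel₀ h0])
        have hb' : b = sf a b • act A (sff i) := by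
          rw [show act A (sff i) = _ from hAf, smul_smul, mul_inv_cancel₀ h0, one_smul]
        have e1 : sf a (act A u) = 0 := by
          rw [← show act A (se i) = a from hAe, sf_act]; exact (W_perp hu).1
        refine ⟨act A u, e1, by rw [hb', sf_smul_left, sf_act, (W_perp hu).2.2.2, mul_zero], ?_, ?_⟩
        · intro d hd
          rw [← show act A (se i) = a from hAe, ← act_smul] at hd
          have h := act_injective A hd
          have := congrArg (fun y => sf y w) h
          simp only [sf_smul_left, huw, (W_perp hw).1, mul_zero] at this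
          exact one_ne_zero this
        · intro d hd
          rw [hb', smul_smul, ← act_smul] at hd
          have h := act_injective A hd
          have := congrArg (fun y => sf y w) h
          simp only [sf_smul_left, huw, (W_perp hw).2.2.2, mul_zero] at this
          exact one_ne_zero this
    exact (horth a y ha hay hy.1 t).trans (horth b y hb hby hy.2 t).symm
  have hab : ∀ a b : Gm ⧸ N, a * b = b * a := by
    have htop : Subgroup.closure (q '' {g | ∃ (v : Vm) (t : F), g = eich v 0 t}) = ⊤ := by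
      rw [← MonoidHom.map_closure]
      change (TG F m).map q = ⊤
      rw [sp_generated, Subgroup.map_top_of_surjective _ (QuotientGroup.mk'_surjective N)]
    have hgen : ∀ a ∈ q '' {g | ∃ (v : Vm) (t : F), g = eich v 0 t},
        ∀ b ∈ q '' {g | ∃ (v : Vm) (t : F), g = eich v 0 t}, a * b = b * a := by
      rintro _ ⟨_, ⟨v, t, rfl⟩, rfl⟩ _ ⟨_, ⟨w, s, rfl⟩, rfl⟩
      have h0 : ∀ r : F, eich (0 : Vm) 0 r = 1 := fun r => eq_of_act fun x => by
        rw [act_eich_zero, smul_zero, add_zero, act_one]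
      rcases eq_or_ne v 0 with rfl | hv
      · rw [h0, map_one, one_mul, mul_one]
      rcases eq_or_ne w 0 with rfl | hw
      · rw [h0, map_one, one_mul, mul_one]
      change τ v t * τ w s = τ w s * τ v t
      rw [hall v w hv hw t]
      change q _ * q _ = q _ * q _
      rw [← map_mul, ← map_mul, trans_comm (form_self w)]
    intro a b
    have ha : a ∈ Subgroup.closure (q '' {g | ∃ (v : Vm) (t : F), g = eich v 0 t}) := by
      rw [htop]; trivial
    have hb : b ∈ Subgroup.closure (q '' {g | ∃ (v : Vm) (t : F), g = eich v 0 t}) := by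
      rw [htop]; trivial
    exact (Subgroup.isMulCommutative_closure hgen).is_comm.comm ⟨a, ha⟩ ⟨b, hb⟩ |>
      congrArg Subtype.val
  exact hab

/-- A non-central normal subgroup contains all `r`-th powers. -/
theorem sp_normal_pow (hm2 : 2 ≤ m) (r : ℕ) [CharP F r] (N : Subgroup Gm) [N.Normal]
    (hN : ¬ N ≤ Subgroup.center Gm) (x : Gm) : x ^ r ∈ N := by
  have hab := sp_normal_commute hm2 N hN
  let _ : CommGroup (Gm ⧸ N) := { (inferInstance : Group (Gm ⧸ N)) with mul_comm := hab }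
  rw [← QuotientGroup.eq_one_iff, QuotientGroup.mk_pow]
  have h : (powMonoidHom r : Gm ⧸ N →* Gm ⧸ N).comp (QuotientGroup.mk' N) = 1 := by
    refine MonoidHom.eq_of_eqOn_dense (s := {g | ∃ (v : Vm) (t : F), g = eich v 0 t})
      sp_generated ?_
    rintro _ ⟨v, t, rfl⟩
    change (QuotientGroup.mk (eich v 0 t) : Gm ⧸ N) ^ r = 1
    rw [← QuotientGroup.mk_pow, eich_zero_pow, CharP.cast_eq_zero, zero_mul, eich_zero_zero]
    rfl
  exact congrArg (fun f => f x) h

/-- Normal subgroups of `Sp_{2m}(q)` are central or everything. -/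
theorem sp_normal_cases (hm2 : 2 ≤ m) (hex : m = 2 → 3 ≤ Fintype.card F) (N : Subgroup Gm)
    [N.Normal] : N ≤ Subgroup.center Gm ∨ N = ⊤ := by
  by_cases hN : N ≤ Subgroup.center Gm
  · exact Or.inl hN
  right
  have hab := sp_normal_commute hm2 N hN
  let q : Gm →* Gm ⧸ N := QuotientGroup.mk' N
  refine eq_top_iff.mpr ?_
  rw [← sp_commutator_eq_top hm2 hex, commutator_eq_closure, Subgroup.closure_le]
  rintro _ ⟨a, b, rfl⟩
  apply (QuotientGroup.eq_one_iff _).mp
  change q ⁅a, b⁆ = 1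
  rw [map_commutatorElement, commutatorElement_eq_one_iff_mul_comm]
  exact hab _ _

/-- `PSp_{2m}(q)` is simple. -/
theorem psp_simple (hm2 : 2 ≤ m) (hex : m = 2 → 3 ≤ Fintype.card F) : IsSimpleGroup Pm := by
  have hnt : Nontrivial Pm := by
    refine ⟨⟨ps (eich (se (⟨0, by omega⟩ : Fin m)) 0 1), 1, fun h => ?_⟩⟩
    obtain ⟨p, _⟩ := CharP.exists F
    have : Fact p.Prime := ⟨CharP.char_is_prime F p⟩
    have h1 := pElem_inj (PEl_eich (p := p) (1 : F) (sf_zero_right _)) (y := 1)
      ⟨0, by simp⟩ (by rw [h, map_one])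
    have h3 := congrArg (fun g => act g (sff (⟨0, by omega⟩ : Fin m))) h1
    simp only [act_eich_zero, act_one, sf_se_sff, mul_one, one_smul, add_eq_left] at h3
    exact se_ne_zero _ h3
  refine ⟨fun H hH => ?_⟩
  rcases sp_normal_cases hm2 hex (H.comap ps) with h | h
  · left
    rw [eq_bot_iff]
    intro y hy
    obtain ⟨g, rfl⟩ := ps_surjective y
    exact ps_eq_one.mpr (h hy)
  · right
    rw [eq_top_iff]
    intro y _
    obtain ⟨g, rfl⟩ := ps_surjective y
    have : g ∈ H.comap ps := h ▸ trivial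
    exact this

end Cfsg.Agent.Small.PSpn
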