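import Mathlib
import Cfsg.Agent.Lib.Small.PSLn.Out
import Cfsg.Agent.Lib.Small.PSpn.Aut

/-!
The multiplier and the outer automorphisms of `PSp_{2m}(q)`.
-/

set_option autoImplicit false
set_option linter.unusedSectionVars false

namespace Cfsg.Agent.Small.PSpn

open Matrix
open Cfsg.Agent.Lead.Symp (form_eq form_self form_swap)

variable {F : Type*} [Field F] [Fintype F] {m : ℕ}

local notation "Vm" => Fin m ⊕ Fin m → F
local notation "Mm" => Matrix (Fin m ⊕ Fin m) (Fin m ⊕ Fin m) F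
local notation "Gm" => Matrix.symplecticGroup (Fin m) F
local notation "Pm" => Cfsg.PSp m F
local notation "Hm" => Cfsg.GSp m F

variable (hm : 1 ≤ m)

include hm in
theorem scalar_of_aut_eq_one {g : Hm} {σ : F ≃+* F} (h : (cS g * fS σ : MulAut Pm) = 1) :
    σ = 1 ∧ ∃ c : F, c ≠ 0 ∧ g.1.val = c • (1 : Mm) := by
  classical
  obtain ⟨p, hp⟩ := CharP.exists F
  have : Fact p.Prime := ⟨CharP.char_is_prime F p⟩
  obtain ⟨k, hk⟩ := g.2
  have hline : ∀ v : Vm, ∃ c : F, sact g σ v = c • v := by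
    intro v
    rcases eq_or_ne v 0 with rfl | hv
    · exact ⟨0, by rw [sact_zero, zero_smul]⟩
    have h1 := Tb_sact (g := g) (σ := σ) k.ne_zero hk v
    rw [h, show ⇑(1 : MulAut Pm) = id from rfl, Set.image_id] at h1
    obtain ⟨c, -, hc⟩ :=
      Tb_inj p (fun h0 => hv (sact_injective g σ (h0.trans (sact_zero g σ).symm))) h1
    exact ⟨c, hc⟩
  let i : Fin m := ⟨0, hm⟩
  obtain ⟨b, hb⟩ := line_scalar (⊤ : Submodule F Vm)
    (fun u _ hu => by
      obtain ⟨x, hx⟩ := Cfsg.Agent.Lead.Symp.exists_form_ne hu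
      exact ⟨x, trivial, hx⟩)
    (u₀ := se i) trivial (se_ne_zero _) (sact g σ) (fun x _ y _ => sact_add g σ x y)
    (fun v _ => hline v)
  have hb0 : b ≠ 0 := fun h0 => se_ne_zero (F := F) i (sact_injective g σ (by
    rw [hb _ trivial, h0, zero_smul, sact_zero]))
  have hσ : σ = 1 := RingEquiv.ext fun c => by
    have h1 := sact_smul g σ c (se i)
    rw [hb _ trivial, hb _ trivial, smul_smul, smul_smul] at h1
    have h3 := smul_left_injective F (se_ne_zero (F := F) i) h1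
    exact (mul_right_cancel₀ hb0 (h3.symm.trans (mul_comm b c)))
  refine ⟨hσ, b, hb0, ext_mulVec fun v => ?_⟩
  have h1 := hb v trivial
  rw [sact, hσ] at h1
  rw [Matrix.smul_mulVec, Matrix.one_mulVec]
  exact h1

theorem cS_of_scalar {g : Hm} {c : F} (h : g.1.val = c • (1 : Mm)) :
    (cS g : MulAut Pm) = 1 := by
  ext y
  obtain ⟨x, rfl⟩ := ps_surjective y
  rw [cS_apply, MulAut.one_apply]
  congr 1
  apply ext_val
  rw [conjS_val, h, Matrix.smul_mul, Matrix.one_mul, ← Matrix.mul_one x.1, ← Matrix.mul_smul,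
    ← h, Matrix.mul_assoc, Units.mul_inv]

include hm in
theorem decomp_unique {g g' : Hm} {σ σ' : F ≃+* F}
    (h : (cS g * fS σ : MulAut Pm) = cS g' * fS σ') :
    (cS g : MulAut Pm) = cS g' ∧ σ = σ' := by
  have h1 : (cS (sField σ'⁻¹ (g'⁻¹ * g)) * fS (σ'⁻¹ * σ) : MulAut Pm) = 1 := by
    rw [map_mul fS, ← mul_assoc, ← fS_cS, map_mul cS, map_inv cS, map_inv fS, mul_assoc,
      mul_assoc (cS g')⁻¹, h]
    group
  obtain ⟨hσ, c, -, hc⟩ := scalar_of_aut_eq_one hm h1
  rw [cS_of_scalar hc] at h1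
  have h2 : σ = σ' := (inv_mul_eq_one.mp hσ).symm
  rw [h2] at h
  exact ⟨mul_right_cancel h, h2⟩

include hm in
theorem fS_injective : Function.Injective (fS (m := m) (F := F)) := fun σ τ h =>
  (decomp_unique hm (g := 1) (g' := 1) (σ := σ) (σ' := τ) (by rw [h])).2

include hm in
theorem exists_theta (himg : HImg F m) (hm2 : 2 ≤ m) :
    ∃ Θ : MulAut Pm →* (F ≃+* F),
      (∀ g σ, Θ (cS g * fS σ) = σ) ∧ Θ.ker = (cS (m := m) (F := F)).range := by
  choose gOf σOf hOf using fun α : MulAut Pm => aut_decomp hm2 himg α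
  have huniq : ∀ α g σ, α = cS g * fS σ → σOf α = σ := fun α g σ h =>
    (decomp_unique hm ((hOf α).symm.trans h)).2
  let Θ : MulAut Pm →* (F ≃+* F) := MonoidHom.mk' σOf (fun α β => huniq (α * β) _ _
    (by conv_lhs => rw [hOf α, hOf β, decomp_mul]))
  refine ⟨Θ, fun g σ => huniq _ g σ rfl, le_antisymm ?_ ?_⟩
  · intro α hα
    exact ⟨gOf α, ((hOf α).trans (by rw [show σOf α = 1 from hα, map_one, mul_one])).symm⟩
  · rintro _ ⟨g, rfl⟩
    exact huniq _ g 1 (by rw [map_one, mul_one])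

theorem inn_normal : (Cfsg.Inn Pm).Normal := by infer_instance

theorem inn_le_inndiag : Cfsg.Inn Pm ≤ Cfsg.inndiagPSp m F := by
  rintro _ ⟨k, rfl⟩
  obtain ⟨x, rfl⟩ := ps_surjective k
  rw [inndiag_eq, ← cS_toS]
  exact ⟨_, rfl⟩

theorem gammaPSp_eq_top (hm2 : 2 ≤ m) (himg : HImg F m) : Cfsg.gammaPSp m F = ⊤ := by
  refine eq_top_iff.mpr fun α _ => ?_
  obtain ⟨g, σ, rfl⟩ := aut_decomp hm2 himg α
  exact Subgroup.subset_closure ⟨g.1, σ, g.2, (induced_iff g.1 g.2 σ _).mpr rfl⟩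

/-! ### Multipliers -/

/-- The multiplier of a similitude. -/
noncomputable def mult (g : Hm) : Fˣ := g.2.choose

theorem mult_spec (g : Hm) (u v : Vm) :
    sf (g.1.val *ᵥ u) (g.1.val *ᵥ v) = (mult g : F) * sf u v :=
  g.2.choose_spec u v

include hm in
theorem mult_eq {g : Hm} {c : F}
    (hc : ∀ u v, sf (g.1.val *ᵥ u) (g.1.val *ᵥ v) = c * sf u v) : (mult g : F) = c := by
  have h1 := (mult_spec g (se ⟨0, hm⟩) (sff ⟨0, hm⟩)).symm.trans (hc _ _)
  rwa [sf_se_sff, mul_one, mul_one] at h1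

/-- The multiplier as a homomorphism. -/
noncomputable def nu (hm : 1 ≤ m) : Hm →* Fˣ :=
  MonoidHom.mk' mult fun g h => Units.ext (mult_eq hm fun u v => by
    rw [Subgroup.coe_mul, Units.val_mul, ← Matrix.mulVec_mulVec, ← Matrix.mulVec_mulVec, mult_spec,
      mult_spec, Units.val_mul, mul_assoc])

theorem nu_apply (g : Hm) : nu hm g = mult g := rfl

/-- Scalar similitudes. -/
noncomputable def scalarS : Fˣ →* Hm :=
  (Units.map (Matrix.scalar (Fin m ⊕ Fin m) : F →+* Mm).toMonoidHom).codRestrict _ fun u =>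
    ⟨u * u, fun v w => by
      have hv : ∀ v : Vm, (Matrix.scalar (Fin m ⊕ Fin m) (u : F)) *ᵥ v = (u : F) • v := fun v => by
        ext k
        simp [Matrix.scalar_apply, Matrix.mulVec_diagonal]
      change sf (Matrix.scalar (Fin m ⊕ Fin m) (u : F) *ᵥ v)
        (Matrix.scalar (Fin m ⊕ Fin m) (u : F) *ᵥ w) = _
      rw [hv, hv, sf_smul_left, sf_smul_right, Units.val_mul, mul_assoc]⟩

theorem scalarS_val (u : Fˣ) :
    ((scalarS (m := m) u).1).val = (u : F) • (1 : Mm) := by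
  change Matrix.scalar (Fin m ⊕ Fin m) (u : F) = _
  rw [Matrix.smul_one_eq_diagonal]
  rfl

theorem cS_scalarS (u : Fˣ) : (cS (scalarS (m := m) u) : MulAut Pm) = 1 :=
  cS_of_scalar (scalarS_val u)

theorem nu_scalarS (u : Fˣ) : nu hm (scalarS u) = u ^ 2 :=
  Units.ext (mult_eq hm fun v w => by
    rw [scalarS_val, Matrix.smul_mulVec, Matrix.one_mulVec, Matrix.smul_mulVec, Matrix.one_mulVec,
      sf_smul_left, sf_smul_right, Units.val_pow_eq_pow_val, pow_two, mul_assoc])

theorem nu_toS (x : Gm) : nu hm (toS x) = 1 :=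
  Units.ext (mult_eq hm fun v w => by
    rw [toS_val, Units.val_one, one_mul]
    exact sf_act x v w)

theorem nu_surjective : Function.Surjective (nu (F := F) hm) := by
  intro t
  let d : Fin m ⊕ Fin m → F := Sum.elim (fun _ => (t : F)) (fun _ => 1)
  let d' : Fin m ⊕ Fin m → F := Sum.elim (fun _ => ((t⁻¹ : Fˣ) : F)) (fun _ => 1)
  have h1 : d * d' = 1 := by
    funext k
    cases k <;> simp [d, d']
  have h3 : d' * d = 1 := by rw [mul_comm, h1]
  let gl : GL (Fin m ⊕ Fin m) F := ⟨Matrix.diagonal d, Matrix.diagonal d',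
    by rw [Matrix.diagonal_mul_diagonal, ← Matrix.diagonal_one]; exact congrArg Matrix.diagonal h1,
    by rw [Matrix.diagonal_mul_diagonal, ← Matrix.diagonal_one]; exact congrArg Matrix.diagonal h3⟩
  have hgl : ∀ u v : Vm, sf (gl.val *ᵥ u) (gl.val *ᵥ v) = (t : F) * sf u v := fun u v => by
    simp only [gl, sf, form_eq, Matrix.mulVec_diagonal, d, Sum.elim_inl, Sum.elim_inr, one_mul,
      Finset.mul_sum]
    exact Finset.sum_congr rfl fun i _ => by ring
  exact ⟨⟨gl, t, hgl⟩, Units.ext (mult_eq hm hgl)⟩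

include hm in
theorem cS_eq_one_iff (g : Hm) : (cS g : MulAut Pm) = 1 ↔ ∃ u : Fˣ, g = scalarS u := by
  constructor
  · intro h
    obtain ⟨-, c, hc0, hc⟩ := scalar_of_aut_eq_one (σ := 1) hm (by rw [h, map_one, mul_one])
    exact ⟨Units.mk0 c hc0, Subtype.ext (Units.ext (by rw [hc, scalarS_val]; rfl))⟩
  · rintro ⟨u, rfl⟩
    exact cS_scalarS u

/-- The squares. -/
abbrev Sq (F : Type*) [Field F] : Subgroup Fˣ := (powMonoidHom 2 : Fˣ →* Fˣ).range

include hm in
theorem inner_iff_nu (g : Hm) : (cS g : MulAut Pm) ∈ Cfsg.Inn Pm ↔ nu hm g ∈ Sq F := by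
  constructor
  · rintro ⟨k, hk⟩
    obtain ⟨x, rfl⟩ := ps_surjective k
    rw [← cS_toS] at hk
    obtain ⟨u, hu⟩ := (cS_eq_one_iff hm ((toS x)⁻¹ * g)).mp
      (by rw [map_mul, map_inv, hk, inv_mul_cancel])
    refine ⟨u, ?_⟩
    rw [powMonoidHom_apply, ← nu_scalarS hm u, ← hu, map_mul, map_inv, nu_toS, inv_one, one_mul]
  · rintro ⟨u, hu⟩
    set g' := (scalarS (m := m) u)⁻¹ * g with hg'
    have h1 : nu hm g' = 1 := by
      rw [hg', map_mul, map_inv, nu_scalarS, ← powMonoidHom_apply, hu, inv_mul_cancel]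
    have hs : g'.1.val ∈ Gm := mem_of_form fun v w => by
      rw [mult_spec, ← nu_apply hm, h1, Units.val_one, one_mul]
    refine ⟨ps ⟨_, hs⟩, ?_⟩
    rw [← cS_toS, show toS (⟨g'.1.val, hs⟩ : Gm) = g' from Subtype.ext (Units.ext rfl), hg', map_mul,
      map_inv, cS_scalarS, inv_one, one_mul]

/-- The multiplier modulo squares. -/
noncomputable def Delta (hm : 1 ≤ m) : Hm →* Fˣ ⧸ Sq F :=
  (QuotientGroup.mk' _).comp (nu hm)

theorem Delta_surjective : Function.Surjective (Delta (F := F) hm) :=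
  (QuotientGroup.mk'_surjective _).comp (nu_surjective hm)

include hm in
theorem inn_iff_Delta (g : Hm) : (cS g : MulAut Pm) ∈ Cfsg.Inn Pm ↔ Delta hm g = 1 := by
  rw [inner_iff_nu hm]
  exact (QuotientGroup.eq_one_iff _).symm

theorem index_Sq : (Sq F).index = Nat.gcd 2 (Fintype.card F - 1) := by
  rw [IsCyclic.index_powMonoidHom_range, Nat.card_units, Nat.card_eq_fintype_card, Nat.gcd_comm]

theorem two_ne_zero_of_odd {p f : ℕ} [Fact p.Prime] (hF : Fintype.card F = p ^ f)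
    (hp : p ≠ 2) : (2 : F) ≠ 0 := by
  have hch : CharP F p := charP_of_card_eq_prime_pow hF
  intro h
  have h1 : ((2 : ℕ) : F) = 0 := by exact_mod_cast h
  rw [CharP.cast_eq_zero_iff F p] at h1
  exact hp ((Nat.prime_dvd_prime_iff_eq (Fact.out) Nat.prime_two).mp h1)

include hm in
theorem inndiag_eq_inn (h2 : (2 : F) = 0) : Cfsg.inndiagPSp m F = Cfsg.Inn Pm := by
  refine le_antisymm ?_ inn_le_inndiag
  rw [inndiag_eq]
  rintro _ ⟨g, rfl⟩
  rw [inner_iff_nu hm]
  have hch : CharP F 2 :=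
    ringChar.of_eq (CharP.ringChar_of_prime_eq_zero Nat.prime_two (by exact_mod_cast h2))
  obtain ⟨r, hr⟩ := FiniteField.isSquare_of_char_two (ringChar.eq F 2) (nu hm g : F)
  have hr0 : r ≠ 0 := fun h => (nu hm g).ne_zero (by rw [hr, h, mul_zero])
  refine ⟨Units.mk0 r hr0, Units.ext ?_⟩
  rw [powMonoidHom_apply, Units.val_pow_eq_pow_val, Units.val_mk0, pow_two, hr]

theorem inndiag_normal (hm2 : 2 ≤ m) : (Cfsg.inndiagPSp m F).Normal := by
  by_cases h2 : (2 : F) = 0
  · rw [inndiag_eq_inn (by omega) h2]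
    exact inn_normal
  · obtain ⟨Θ, -, hker⟩ := exists_theta (by omega) (himg_odd (by omega) h2) hm2
    rw [inndiag_eq, ← hker]
    infer_instance

include hm in
theorem card_inn : Nat.card (Cfsg.Inn Pm) = Nat.card Pm := by
  have hinj : Function.Injective (MulAut.conj : Pm →* MulAut Pm) := by
    rw [injective_iff_map_eq_one]
    intro y hy
    obtain ⟨x, rfl⟩ := ps_surjective y
    rw [← cS_toS] at hy
    obtain ⟨-, c, -, hc⟩ := scalar_of_aut_eq_one (σ := 1) hm (by rw [hy, map_one, mul_one])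
    rw [toS_val] at hc
    rw [ps_eq_one, Subgroup.mem_center_iff]
    intro z
    apply ext_val
    change z.1 * x.1 = x.1 * z.1
    rw [hc]
    simp
  exact (Nat.card_congr (MonoidHom.ofInjective hinj).toEquiv).symm

include hm in
theorem card_range_cS :
    Nat.card (cS (m := m) (F := F)).range = Nat.gcd 2 (Fintype.card F - 1) * Nat.card Pm := by
  set H := (cS (m := m) (F := F)).range with hH
  have hwell : ∀ g g' : Hm, (cS g : MulAut Pm) = cS g' → Delta hm g = Delta hm g' := by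
    intro g g' h
    rw [← inv_mul_eq_one, ← map_inv, ← map_mul, ← inn_iff_Delta hm, map_mul, map_inv, h,
      inv_mul_cancel]
    exact one_mem _
  choose pick hpick using fun x : H => x.2
  let Δ' : H →* Fˣ ⧸ Sq F := MonoidHom.mk' (fun x => Delta hm (pick x)) (fun x y => by
    rw [← map_mul]
    apply hwell
    rw [map_mul, hpick, hpick, hpick]
    rfl)
  have hsurj : Function.Surjective Δ' := by
    intro d
    obtain ⟨g, rfl⟩ := Delta_surjective hm d
    exact ⟨⟨cS g, g, rfl⟩, hwell _ _ (hpick ⟨cS g, g, rfl⟩)⟩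
  have hker : Δ'.ker = (Cfsg.Inn Pm).subgroupOf H := by
    ext x
    rw [MonoidHom.mem_ker, Subgroup.mem_subgroupOf]
    conv_rhs => rw [← hpick x, inn_iff_Delta hm]
    rfl
  have hle : Cfsg.Inn Pm ≤ H := by
    rw [hH, ← inndiag_eq]
    exact inn_le_inndiag
  rw [Subgroup.card_eq_card_quotient_mul_card_subgroup Δ'.ker,
    Nat.card_congr (QuotientGroup.quotientKerEquivOfSurjective Δ' hsurj).toEquiv,
    ← Subgroup.index_eq_card, index_Sq, hker,
    Nat.card_congr (Subgroup.subgroupOfEquivOfLe hle).toEquiv, card_inn hm]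

/-- The order of the automorphism group, given that the transvection groups are permuted. -/
theorem card_aut {p f : ℕ} [Fact p.Prime] (hF : Fintype.card F = p ^ f) (hm2 : 2 ≤ m)
    (himg : HImg F m) :
    Nat.card (MulAut Pm) = Nat.gcd 2 (p ^ f - 1) * f * Nat.card Pm := by
  obtain ⟨e⟩ := PSLn.fieldAut_equiv hF
  obtain ⟨Θ, hΘ, hker⟩ := exists_theta (by omega) himg hm2
  rw [Subgroup.card_eq_card_quotient_mul_card_subgroup Θ.ker,
    Nat.card_congr (QuotientGroup.quotientKerEquivOfSurjective Θ fun σ => ⟨_, hΘ 1 σ⟩).toEquiv,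
    hker, card_range_cS (by omega), Nat.card_congr e.toEquiv,
    Nat.card_congr Multiplicative.toAdd, Nat.card_zmod, hF]
  ring

end Cfsg.Agent.Small.PSpn
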