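import Mathlib
import Cfsg.Agent.Lib.Small.PSpn.Out

/-!
In characteristic two and `m ≥ 3` automorphisms of `PSp_{2m}(q)` permute the transvection groups:
transvections are told apart from the other elements of a Sylow centre by the property that two of
their conjugates lying in a common 2-subgroup commute.
-/

set_option autoImplicit false
set_option linter.unusedSectionVars false

namespace Cfsg.Agent.Small.PSpn

open Matrix
open scoped Pointwise
open Cfsg.Agent.Lead.Symp (form_self form_swap)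

variable {F : Type*} [Field F] [Fintype F] {m : ℕ}

local notation "Vm" => Fin m ⊕ Fin m → F
local notation "Gm" => Matrix.symplecticGroup (Fin m) F
local notation "Pm" => Cfsg.PSp m F

/-- Two conjugates of `x` in a common 2-subgroup commute. -/
def TP {X : Type*} [Group X] (x : X) : Prop :=
  ∀ R : Subgroup X, IsPGroup 2 R → ∀ a b : X,
    IsConj x a → IsConj x b → a ∈ R → b ∈ R → a * b = b * a

theorem TP_map {X : Type*} [Group X] (α : MulAut X) {x : X} (h : TP x) : TP (α x) := by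
  intro R hR a b ha hb haR hbR
  have h1 := h (R.comap α.toMonoidHom) (hR.comap_of_injective _ α.injective) (α⁻¹ a) (α⁻¹ b)
    (by simpa using (α⁻¹).toMonoidHom.map_isConj ha)
    (by simpa using (α⁻¹).toMonoidHom.map_isConj hb)
    (by rw [Subgroup.mem_comap]; simpa using haR) (by rw [Subgroup.mem_comap]; simpa using hbR)
  simpa using congrArg α h1

theorem isConj_eich (g : Gm) {e z : Vm} (a : F) (h : sf e z = 0) :
    IsConj (ps (eich e z a) : Pm) (ps (eich (act g e) (act g z) a)) :=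
  isConj_iff.mpr ⟨ps g, by rw [← map_inv, ← map_mul, ← map_mul, eich_conj g a h]⟩

/-- Moving a vector of the complement while fixing the pair. -/
theorem exists_W_move {i : Fin m} {u u' : Vm} (hu : u ∈ Wsub i) (hu' : u' ∈ Wsub i) (hu0 : u ≠ 0)
    (hu'0 : u' ≠ 0) : ∃ g : Gm, act g (se i) = se i ∧ act g (sff i) = sff i ∧ act g u = u' := by
  have step : ∀ u u' : Vm, u ∈ Wsub i → u' ∈ Wsub i → sf u' u ≠ 0 →
      ∃ g : Gm, act g (se i) = se i ∧ act g (sff i) = sff i ∧ act g u = u' := by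
    intro u u' hu hu' h
    have hd : u' - u ∈ Wsub i := sub_mem hu' hu
    refine ⟨eich (u' - u) 0 (sf u' u)⁻¹, ?_, ?_, ?_⟩
    · rw [act_eich_zero, (W_perp hd).2.1, mul_zero, zero_smul, add_zero]
    · rw [act_eich_zero, (W_perp hd).2.2.1, mul_zero, zero_smul, add_zero]
    · rw [act_eich_zero, sf_sub_left, show sf u u = 0 from form_self u, sub_zero,
        inv_mul_cancel₀ h, one_smul, add_sub_cancel]
  obtain ⟨x, hx, hux⟩ := exists_W_ne hu hu0
  obtain ⟨y, hy, huy⟩ := exists_W_ne hu' hu'0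
  obtain ⟨z, hz, hzu, hzu'⟩ : ∃ z ∈ Wsub i, sf u z ≠ 0 ∧ sf u' z ≠ 0 := by
    by_cases h1 : sf u' x = 0
    · by_cases h3 : sf u y = 0
      · refine ⟨x + y, (Wsub i).add_mem hx hy, ?_, ?_⟩
        · rwa [sf_add_right, h3, add_zero]
        · rwa [sf_add_right, h1, zero_add]
      · exact ⟨y, hy, h3, huy⟩
    · exact ⟨x, hx, hux, h1⟩
  obtain ⟨g, hge, hgf, hgu⟩ := step u z hu hz (by rw [sf, form_swap, ← sf]; exact neg_ne_zero.mpr hzu)
  obtain ⟨g', hge', hgf', hgu'⟩ := step z u' hz hu' hzu'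
  exact ⟨g' * g, by rw [act_mul, hge, hge'], by rw [act_mul, hgf, hgf'],
    by rw [act_mul, hgu, hgu']⟩

section Two

variable [CharP F 2]

theorem ps_injective : Function.Injective (ps : Gm → Pm) := by
  rw [injective_iff_map_eq_one]
  intro x hx
  obtain ⟨c, hc, hxc⟩ := Cfsg.Agent.Small.sp_center_smul m x (ps_eq_one.mp hx)
  have : c = 1 := by
    have h2 : (2 : F) = 0 := CharP.cast_eq_zero F 2
    have : (c - 1) ^ 2 = 0 := by linear_combination hc + (1 - c) * h2
    exact sub_eq_zero.mp (eq_zero_of_pow_eq_zero this)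
  exact Subtype.ext (by rw [hxc, this, one_smul]; rfl)

theorem TP_trans (v : Vm) (t : F) : TP (ps (eich v 0 t) : Pm) := by
  intro R hR a b ha hb haR hbR
  obtain ⟨c, rfl⟩ := isConj_iff.mp ha
  obtain ⟨d, rfl⟩ := isConj_iff.mp hb
  obtain ⟨g, rfl⟩ := ps_surjective c
  obtain ⟨g', rfl⟩ := ps_surjective d
  simp only [← map_inv, ← map_mul, eich_conj _ t (sf_zero_right v), act_zero] at haR hbR ⊢
  set u := act g v
  set w := act g' v
  congr 1
  by_cases huw : sf u w = 0
  · exact trans_comm huw t t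
  by_cases ht : t = 0
  · rw [ht, eich_zero_zero, eich_zero_zero]
  exfalso
  let U : Submodule F Vm := Submodule.span F {u, w}
  let K : Subgroup Gm :=
    { carrier := {g | ∀ x ∈ U, act g x ∈ U ∧ act g⁻¹ x ∈ U}
      one_mem' := fun x hx => by
        constructor
        · rw [act_one]; exact hx
        · rw [inv_one, act_one]; exact hx
      mul_mem' := fun {a b} ha hb x hx => by
        constructor
        · rw [act_mul]; exact (ha _ (hb x hx).1).1
        · rw [_root_.mul_inv_rev, act_mul]; exact (hb _ (ha x hx).2).2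
      inv_mem' := fun {a} ha x hx => ⟨(ha x hx).2, by rw [inv_inv]; exact (ha x hx).1⟩ }
  have hK : ∀ y : Vm, y ∈ U → eich y 0 t ∈ K := fun y hy x hx => by
    have hinv : (eich y 0 t)⁻¹ = eich y 0 (-t) := inv_eq_of_mul_eq_one_right (by
      rw [eich_mul _ _ (sf_zero_right y) (sf_zero_right y), add_neg_cancel, sf_zero_left, add_zero,
        add_zero, eich_zero_zero])
    rw [hinv]
    constructor <;> rw [act_eich_zero] <;> exact U.add_mem hx (U.smul_mem _ hy)
  have huU : u ∈ U := Submodule.subset_span (by simp)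
  have hwU : w ∈ U := Submodule.subset_span (by simp)
  let S : Subgroup Gm := R.comap ps ⊓ K
  have hS : IsPGroup 2 S := (hR.comap_of_injective _ ps_injective).to_le inf_le_left
  obtain ⟨x, hx, hx0, hfix⟩ := exists_fixed (p := 2) hS U.toAddSubgroup (fun s y => act s.1 y)
    (fun s y hy => ((Subgroup.mem_inf.mp s.2).2 y hy).1) (fun y _ => act_one y)
    (fun r s y _ => act_mul r.1 s.1 y) (fun r => act_zero r.1)
    ⟨u, huU, fun h => huw (by rw [h, sf_zero_left])⟩
  obtain ⟨c₁, c₂, rfl⟩ := Submodule.mem_span_pair.mp hx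
  have h1 := hfix ⟨_, Subgroup.mem_inf.mpr ⟨haR, hK u huU⟩⟩
  have h3 := hfix ⟨_, Subgroup.mem_inf.mpr ⟨hbR, hK w hwU⟩⟩
  simp only [act_eich_zero, sf_add_right, sf_smul_right, show sf u u = 0 from form_self u,
    show sf w w = 0 from form_self w, mul_zero, zero_add, add_zero, add_eq_left, smul_eq_zero,
    mul_eq_zero] at h1 h3
  have hwu : sf w u ≠ 0 := by rw [sf, form_swap, ← sf]; exact neg_ne_zero.mpr huw
  have hu0 : u ≠ 0 := fun h => huw (by rw [h, sf_zero_left])
  have hw0 : w ≠ 0 := fun h => huw (by rw [h, sf_zero_right])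
  have hc₂ : c₂ = 0 := by tauto
  have hc₁ : c₁ = 0 := by tauto
  exact hx0 (by rw [hc₁, hc₂, zero_smul, zero_smul, add_zero])

theorem not_TP (hm3 : 3 ≤ m) {e z : Vm} (he : e ≠ 0) (a : F) (hez : sf e z = 0)
    (hline : ∀ c : F, z ≠ c • e) : ¬ TP (ps (eich e z a) : Pm) := by
  intro hTP
  let i : Fin m := ⟨0, by omega⟩
  let k : Fin m := ⟨1, by omega⟩
  let l : Fin m := ⟨2, by omega⟩
  have hki : k ≠ i := by simp [k, i]
  have hli : l ≠ i := by simp [l, i]
  have hkl : k ≠ l := by simp [k, l]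
  have h2 : (2 : F) = 0 := CharP.cast_eq_zero F 2
  -- normalise
  obtain ⟨g₁, hg₁⟩ := exists_act_eq he (se_ne_zero (F := F) i)
  have hez₁ : sf (se i) (act g₁ z) = 0 := by rw [← hg₁, sf_act]; exact hez
  set w := projW i (act g₁ z) with hw
  have hwW : w ∈ Wsub i := projW_mem i _
  have hzw : act g₁ z = w + sf (act g₁ z) (sff i) • se i := by
    rw [hw, projW, hez₁, zero_smul]; abel
  have hw0 : w ≠ 0 := fun h0 => hline (sf (act g₁ z) (sff i)) (act_injective g₁ (by
    rw [act_smul, hg₁]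
    conv_lhs => rw [hzw, h0, zero_add]))
  have hseW : ∀ j, j ≠ i → (se j : Vm) ∈ Wsub i ∧ (sff j : Vm) ∈ Wsub i := fun j hj =>
    ⟨⟨by simp [se], by simp [se, hj.symm]⟩, ⟨by simp [sff, hj.symm], by simp [sff]⟩⟩
  obtain ⟨g₂, hg₂e, -, hg₂w⟩ := exists_W_move hwW (hseW k hki).1 hw0 (se_ne_zero k)
  set x := eich (se i : Vm) (se k) a with hx
  have hconj : IsConj (ps (eich e z a) : Pm) (ps x) := by
    have h1 := isConj_eich g₁ a hez
    rw [hg₁, hzw, eich_shift _ _ (W_perp hwW).1, h2, zero_mul, add_zero] at h1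
    have h3 := isConj_eich g₂ a (W_perp hwW).1
    rw [hg₂e, hg₂w] at h3
    exact h1.trans h3
  -- the second conjugate
  obtain ⟨g₃, hg₃e, hg₃k⟩ : ∃ g : Gm, act g (se i) = se l ∧ act g (se k) = sff k := by
    obtain ⟨B, -, hBe, hBf⟩ := Cfsg.Agent.Lead.Symp.exists_pair (sf_se_sff (F := F) i)
      (sf_se_sff (F := F) l)
    have hBk : act B (se k) ∈ Wsub l := by
      refine mem_W_of ?_ ?_
      · rw [← show act B (se i) = se l from hBe, sf_act]
        exact (W_perp (hseW k hki).1).1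
      · rw [← show act B (sff i) = sff l from hBf, sf_act]
        exact (W_perp (hseW k hki).1).2.2.1
    obtain ⟨C, hCe, -, hCk⟩ := exists_W_move hBk
      (show (sff k : Vm) ∈ Wsub l from ⟨by simp [sff, hkl.symm], by simp [sff]⟩)
      (act_ne_zero (se_ne_zero k) B) (sff_ne_zero k)
    exact ⟨C * B, by rw [act_mul, show act B (se i) = se l from hBe, hCe], by rw [act_mul, hCk]⟩
  set y := eich (se l : Vm) (sff k) a with hy
  have hlk : sf (se l : Vm) (sff k) = 0 := by
    rw [sf_se_left]; simp [sff, hkl.symm]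
  have hconj' : IsConj (ps (eich e z a) : Pm) (ps y) := by
    have h3 := isConj_eich g₃ a (W_perp (hseW k hki).1).1
    rw [hg₃e, hg₃k] at h3
    exact hconj.trans h3
  have hye : act y (se i) = se i := by
    rw [hy, act_eich a hlk, (W_perp (hseW l hli).1).2.1, (W_perp (hseW k hki).2).2.1]
    simp
  have hyG : IsPGroup 2 (Subgroup.zpowers y) := by
    rintro ⟨r, hr⟩
    obtain ⟨j, rfl⟩ := Subgroup.mem_zpowers_iff.mp hr
    exact ⟨2, Subtype.ext (by
      change (y ^ j) ^ (2 ^ 2) = 1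
      rw [← zpow_natCast, ← _root_.zpow_mul, mul_comm, _root_.zpow_mul, zpow_natCast, hy,
        eich_pow_p2 (p := 2) a hlk, _root_.one_zpow])⟩
  have hn : Subgroup.zpowers y ≤ Subgroup.normalizer (Qg (se i : Vm) : Set Gm) := by
    rw [Subgroup.zpowers_le, Subgroup.mem_normalizer_iff]
    have key : ∀ s : Gm, act s (se i) = se i → ∀ q ∈ Qg (se i : Vm), s * q * s⁻¹ ∈ Qg (se i) := by
      rintro s hs _ ⟨z', a', h', rfl⟩
      refine ⟨act s z', a', ?_, by rw [eich_conj s a' h', hs]⟩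
      rw [← hs, sf_act]
      exact h'
    intro q
    refine ⟨key y hye q, fun h => ?_⟩
    have h' := key y⁻¹ (by conv_lhs => rw [← hye, act_inv_act]) _ h
    group at h'
    exact h'
  have hR : IsPGroup 2 ((Subgroup.zpowers y ⊔ Qg (se i : Vm)).map (ps : Gm →* Pm)) :=
    (IsPGroup.to_sup_of_normal_right' hyG (isPGroup_Qg _) hn).map _
  have hxy := hTP _ hR (ps x) (ps y) hconj hconj'
    ⟨x, Subgroup.mem_sup_right ⟨_, a, (W_perp (hseW k hki).1).1, rfl⟩, rfl⟩
    ⟨y, Subgroup.mem_sup_left (Subgroup.mem_zpowers y), rfl⟩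
  rw [← map_mul, ← map_mul] at hxy
  have h3 := congrArg (fun g => act g (sff i)) (ps_injective hxy)
  simp only [act_mul, hx, hy, act_eich a hlk, act_eich a (W_perp (hseW k hki).1).1, sf_se_sff,
    (W_perp (hseW k hki).1).2.2.1, (W_perp (hseW l hli).1).2.2.1, (W_perp (hseW k hki).2).2.2.1,
    sf_add_right, sf_smul_right, (W_perp (hseW l hli).1).2.1, (W_perp (hseW k hki).2).2.1,
    zero_smul, mul_zero, add_zero, zero_add, one_smul, mul_one,
    show sf (se l : Vm) (se k) = 0 by rw [sf_se_left]; simp [se],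
    sf_sff_se, neg_smul] at h3
  rw [left_eq_add, neg_eq_zero] at h3
  exact se_ne_zero l h3

/-- An automorphism sends a transvection group into an Eichler group. -/
theorem exists_target (hm : 1 ≤ m) (α : MulAut Pm) {v : Vm} (hv : v ≠ 0) :
    ∃ w : Vm, w ≠ 0 ∧ ∀ t : F, ∃ z a, sf w z = 0 ∧ α (ps (eich v 0 t)) = ps (eich w z a) := by
  obtain ⟨S, hS⟩ := (isPGroup_Qg v (p := 2)).exists_le_sylow
  obtain ⟨e₁, he₁, hfix₁⟩ := exists_fixed_point (p := 2) hm (S : Subgroup Gm) S.2
  -- a Sylow subgroup fixing `v`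
  obtain ⟨g, hg⟩ := exists_act_eq he₁ hv
  set T := g • S with hT
  have hfix : ∀ s ∈ T, act s v = v := by
    intro s hs
    rw [hT, Sylow.smul_def] at hs
    replace hs : s ∈ MulAut.conj g • (S : Subgroup Gm) := hs
    rw [Subgroup.mem_pointwise_smul_iff_inv_smul_mem] at hs
    have h1 := hfix₁ _ hs
    simp only [MulAut.smul_def, MulAut.inv_apply, MulAut.conj_symm_apply] at h1
    rw [act_mul, act_mul, hg] at h1
    conv_rhs => rw [← hg, ← h1, act_act_inv]
  -- the image Sylow subgroup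
  obtain ⟨T', hT'⟩ : ∃ T' : Sylow 2 Gm, (T' : Subgroup Gm).map ps =
      ((T : Subgroup Gm).map ps).map α.toMonoidHom := by
    have hα : Function.Surjective α.toMonoidHom := fun x => α.surjective x
    obtain ⟨T', hT'⟩ := Sylow.mapSurjective_surjective ps_surjective 2
      ((T.mapSurjective ps_surjective).mapSurjective hα)
    refine ⟨T', ?_⟩
    have h1 := congrArg (fun R : Sylow 2 Pm => (R : Subgroup Pm)) hT'
    simpa [Sylow.coe_mapSurjective] using h1
  obtain ⟨w, hw, hwfix⟩ := exists_fixed_point (p := 2) hm (T' : Subgroup Gm) T'.2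
  refine ⟨w, hw, fun t => ?_⟩
  have htT : eich v 0 t ∈ T := Qg_le_sylow T hfix ⟨0, t, sf_zero_right v, rfl⟩
  obtain ⟨x, hxT, hx⟩ : α (ps (eich v 0 t)) ∈ (T' : Subgroup Gm).map ps := by
    rw [hT']; exact ⟨_, ⟨_, htT, rfl⟩, rfl⟩
  obtain ⟨z, a, hwz, rfl⟩ := eq_eich_of_commute hm hw (hwfix x hxT) (by
    intro y hy
    obtain ⟨_, ⟨y₀, hy₀, rfl⟩, hy'⟩ : (ps y : Pm) ∈ ((T : Subgroup Gm).map ps).map α.toMonoidHom :=
      hT' ▸ ⟨y, Qg_le_sylow T' hwfix hy, rfl⟩
    apply ps_injective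
    rw [map_mul, map_mul, hx, ← hy']
    change α _ * α _ = α _ * α _
    rw [← map_mul, ← map_mul, ← map_mul, ← map_mul]
    congr 2
    have h1 := eich_conj y₀ t (sf_zero_right v)
    rw [hfix y₀ hy₀, act_zero, mul_inv_eq_iff_eq_mul] at h1
    exact h1.symm)
  exact ⟨z, a, hwz, hx.symm⟩

theorem ncard_Tb {u : Vm} (hu : u ≠ 0) : (Tb u : Set Pm).ncard = Nat.card F := by
  rw [show (Tb u : Set Pm) = Set.range fun t : F => ps (eich u 0 t) from
    Set.ext fun x => ⟨fun ⟨t, h⟩ => ⟨t, h.symm⟩, fun ⟨t, h⟩ => ⟨t, h.symm⟩⟩]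
  refine Set.ncard_range_of_injective fun t s hts => ?_
  obtain ⟨u', hu'⟩ := exists_partner hu
  have h1 := congrArg (fun g => act g u') (ps_injective hts)
  simp only [act_eich_zero, hu', mul_one, add_right_inj] at h1
  exact smul_left_injective F hu h1

theorem Tb_image_eq {α : MulAut Pm} {v w : Vm} (hv : v ≠ 0) (hw : w ≠ 0)
    (hsub : α '' Tb v ⊆ Tb w) : α '' Tb v = Tb w := by
  refine Set.eq_of_subset_of_ncard_le hsub ?_
  rw [Set.ncard_image_of_injective _ α.injective, ncard_Tb hv, ncard_Tb hw]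

theorem himg_two (hm3 : 3 ≤ m) : HImg F m := by
  intro α v hv
  obtain ⟨w, hw, htarget⟩ := exists_target (by omega) α hv
  refine ⟨w, hw, Tb_image_eq hv hw ?_⟩
  rintro _ ⟨_, ⟨t, rfl⟩, rfl⟩
  obtain ⟨z, a, hwz, hx⟩ := htarget t
  by_cases hline : ∀ c : F, z ≠ c • w
  · exact absurd (hx ▸ TP_map α (TP_trans v t)) (not_TP hm3 hw a hwz hline)
  · push Not at hline
    obtain ⟨c, rfl⟩ := hline
    refine ⟨a + 2 * c, ?_⟩
    rw [hx]
    congr 1
    conv_lhs => rw [← zero_add (c • w), eich_shift _ _ (sf_zero_right w)]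

end Two

/-- Transvection groups are permuted unless `(m, p) = (2, 2)`. -/
theorem himg_all (hm : 2 ≤ m) (h4 : m = 2 → (2 : F) ≠ 0) : HImg F m := by
  by_cases h2 : (2 : F) = 0
  · have : CharP F 2 :=
      ringChar.of_eq (CharP.ringChar_of_prime_eq_zero Nat.prime_two (by exact_mod_cast h2))
    exact himg_two (by rcases eq_or_ne m 2 with h | h; exacts [absurd h2 (h4 h), by omega])
  · exact himg_odd (by omega) h2

end Cfsg.Agent.Small.PSpn
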