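import Mathlib
import Cfsg.Agent.Lib.Small.PSpn.Image2

/-!
The exceptional automorphism of `Sp_4(2^f)` (the map on `ω^⊥/ω` inside the exterior square) and
the order of the automorphism group of `PSp_4(2^f)`.
-/

set_option autoImplicit false
set_option linter.unusedSectionVars false

namespace Cfsg.Agent.Small.PSpn

open Matrix
open Cfsg.Agent.Lead.Symp (form_eq form_self form_swap)

variable {F : Type*} [Field F] [Fintype F] [CharP F 2]

local notation "V4" => Fin 2 ⊕ Fin 2 → F
local notation "M4" => Matrix (Fin 2 ⊕ Fin 2) (Fin 2 ⊕ Fin 2) F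
local notation "G4" => Matrix.symplecticGroup (Fin 2) F
local notation "P4" => Cfsg.PSp 2 F

/-- First members of the index pairs. -/
def pI : Fin 2 ⊕ Fin 2 → Fin 2 ⊕ Fin 2
  | .inl 0 => .inl 0
  | .inl 1 => .inr 1
  | .inr 0 => .inr 0
  | .inr 1 => .inr 0

/-- Second members of the index pairs. -/
def qI : Fin 2 ⊕ Fin 2 → Fin 2 ⊕ Fin 2
  | .inl 0 => .inl 1
  | .inl 1 => .inl 0
  | .inr 0 => .inr 1
  | .inr 1 => .inl 1

/-- The matrix of the second compound on `ω^⊥/ω`. -/
def gamMat (A : M4) : M4 :=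
  Matrix.of fun a b => A (pI a) (pI b) * A (qI a) (qI b) - A (pI a) (qI b) * A (qI a) (pI b)

theorem gamMat_mul {A B : M4} (hA : A ∈ G4) (hB : B ∈ G4) :
    gamMat (A * B) = gamMat A * gamMat B := by
  have h2 : (2 : F) = 0 := CharP.cast_eq_zero F 2
  have hA' : ∀ a, A (pI a) (.inr 0) * A (qI a) (.inl 0) - A (pI a) (.inl 0) * A (qI a) (.inr 0) +
      (A (pI a) (.inr 1) * A (qI a) (.inl 1) - A (pI a) (.inl 1) * A (qI a) (.inr 1)) = 0 := by
    intro a
    have h := congrFun (congrFun (SymplecticGroup.mem_iff.mp hA) (pI a)) (qI a)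
    simp [Matrix.mul_apply, Matrix.J, Fintype.sum_sum_type, Fin.sum_univ_two] at h
    rcases a with a | a <;> fin_cases a <;> simp [pI, qI] at h ⊢ <;> linear_combination h
  have hB' : ∀ b, B (.inr 0) (pI b) * B (.inl 0) (qI b) - B (.inr 0) (qI b) * B (.inl 0) (pI b) +
      (B (.inr 1) (pI b) * B (.inl 1) (qI b) - B (.inr 1) (qI b) * B (.inl 1) (pI b)) = 0 := by
    intro b
    have h := congrFun (congrFun (SymplecticGroup.mem_iff'.mp hB) (pI b)) (qI b)
    simp [Matrix.mul_apply, Matrix.J, Fintype.sum_sum_type, Fin.sum_univ_two] at h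
    rcases b with b | b <;> fin_cases b <;> simp [pI, qI] at h ⊢ <;> linear_combination h
  ext a b
  have e1 := hA' a
  have e2 := hB' b
  simp only [gamMat, Matrix.of_apply, Matrix.mul_apply, Fintype.sum_sum_type, Fin.sum_univ_two]
  rw [show pI (.inl 0) = .inl 0 from rfl, show pI (.inl 1) = .inr 1 from rfl,
    show pI (.inr 0) = .inr 0 from rfl, show pI (.inr 1) = .inr 0 from rfl,
    show qI (.inl 0) = .inl 1 from rfl, show qI (.inl 1) = .inl 0 from rfl,
    show qI (.inr 0) = .inr 1 from rfl, show qI (.inr 1) = .inl 1 from rfl]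
  linear_combination
    (B (.inr 0) (pI b) * B (.inl 0) (qI b) - B (.inr 0) (qI b) * B (.inl 0) (pI b)) * e1 +
    (A (pI a) (.inr 1) * A (qI a) (.inl 1) - A (pI a) (.inl 1) * A (qI a) (.inr 1)) * e2 -
    (A (pI a) (.inr 1) * A (qI a) (.inl 1) - A (pI a) (.inl 1) * A (qI a) (.inr 1)) *
      (B (.inr 0) (pI b) * B (.inl 0) (qI b) - B (.inr 0) (qI b) * B (.inl 0) (pI b)) * h2

theorem gamMat_one : gamMat (1 : M4) = 1 := by
  ext a b
  rcases a with a | a <;> rcases b with b | b <;> fin_cases a <;> fin_cases b <;>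
    simp [gamMat, Matrix.one_apply, show pI (Sum.inl (0 : Fin 2)) = .inl 0 from rfl,
      show pI (Sum.inl (1 : Fin 2)) = .inr 1 from rfl, show pI (Sum.inr (0 : Fin 2)) = .inr 0 from rfl,
      show pI (Sum.inr (1 : Fin 2)) = .inr 0 from rfl, show qI (Sum.inl (0 : Fin 2)) = .inl 1 from rfl,
      show qI (Sum.inl (1 : Fin 2)) = .inl 0 from rfl, show qI (Sum.inr (0 : Fin 2)) = .inr 1 from rfl,
      show qI (Sum.inr (1 : Fin 2)) = .inl 1 from rfl]

theorem gamMat_J : gamMat (Matrix.J (Fin 2) F) = Matrix.J (Fin 2) F := by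
  ext a b
  rcases a with a | a <;> rcases b with b | b <;> fin_cases a <;> fin_cases b <;>
    simp [gamMat, pI, qI, Matrix.J, CharTwo.neg_eq]

theorem gamMat_transpose (A : M4) : gamMat Aᵀ = (gamMat A)ᵀ := by
  ext a b
  simp only [gamMat, Matrix.of_apply, Matrix.transpose_apply]
  ring

theorem gamMat_mem {A : M4} (hA : A ∈ G4) : gamMat A ∈ G4 := by
  have hJ : Matrix.J (Fin 2) F ∈ G4 := SymplecticGroup.J_mem _ _
  rw [SymplecticGroup.mem_iff]
  have h := congrArg gamMat (SymplecticGroup.mem_iff.mp hA)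
  rwa [gamMat_mul (mul_mem hA hJ) (SymplecticGroup.transpose_mem hA), gamMat_mul hA hJ,
    gamMat_J, gamMat_transpose] at h

/-- The exceptional endomorphism. -/
noncomputable def gam : G4 →* G4 where
  toFun x := ⟨gamMat x.1, gamMat_mem x.2⟩
  map_one' := Subtype.ext gamMat_one
  map_mul' x y := Subtype.ext (gamMat_mul x.2 y.2)

theorem gam_val (x : G4) : (gam x).1 = gamMat x.1 := rfl

theorem eich_entry {m : ℕ} {e z : Fin m ⊕ Fin m → F} (a : F) (h : sf e z = 0)
    (k b : Fin m ⊕ Fin m) :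
    (eich e z a).1 k b = (Pi.single b 1 : Fin m ⊕ Fin m → F) k + sf e (Pi.single b 1) * z k +
      (a * sf e (Pi.single b 1) + sf z (Pi.single b 1)) * e k := by
  have h1 := congrFun (act_eich a h (Pi.single b 1)) k
  rw [act, Matrix.mulVec_single_one] at h1
  simpa using h1

theorem gam_trans_inj {v w : V4} (h : gam (eich v 0 1) = gam (eich w 0 1)) : v = w := by
  have h2 : (2 : F) = 0 := CharP.cast_eq_zero F 2
  have hsq : ∀ x y : F, x ^ 2 = y ^ 2 → x = y := fun x y hxy =>
    sub_eq_zero.mp (eq_zero_of_pow_eq_zero (n := 2)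
      (by linear_combination hxy + (y ^ 2 - x * y) * h2))
  have hv : ∀ (u : V4) (a b : Fin 2 ⊕ Fin 2), (gam (eich u 0 1)).1 a b =
      ((eich u 0 (1 : F)).1 (pI a) (pI b) * (eich u 0 (1 : F)).1 (qI a) (qI b) -
        (eich u 0 (1 : F)).1 (pI a) (qI b) * (eich u 0 (1 : F)).1 (qI a) (pI b)) := fun _ _ _ => rfl
  funext k
  apply hsq
  have key : ∀ a b, (gam (eich v 0 1)).1 a b = (gam (eich w 0 1)).1 a b := fun a b => by rw [h]
  rcases k with k | k <;> fin_cases k
  · have := key (.inl 0) (.inr 1)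
    rw [hv, hv] at this
    simp only [eich_entry _ (sf_zero_right _)] at this
    simp [pI, qI, sf, form_eq, Fin.sum_univ_two] at this ⊢
    linear_combination -this
  · have := key (.inl 0) (.inl 1)
    rw [hv, hv] at this
    simp only [eich_entry _ (sf_zero_right _)] at this
    simp [pI, qI, sf, form_eq, Fin.sum_univ_two] at this ⊢
    linear_combination this
  · have := key (.inr 0) (.inl 1)
    rw [hv, hv] at this
    simp only [eich_entry _ (sf_zero_right _)] at this
    simp [pI, qI, sf, form_eq, Fin.sum_univ_two] at this ⊢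
    linear_combination -this
  · have := key (.inr 0) (.inr 1)
    rw [hv, hv] at this
    simp only [eich_entry _ (sf_zero_right _)] at this
    simp [pI, qI, sf, form_eq, Fin.sum_univ_two] at this ⊢
    linear_combination this

theorem gam_injective : Function.Injective (gam : G4 → G4) := by
  rw [injective_iff_map_eq_one]
  intro x hx
  apply eq_of_act
  intro v
  rw [act_one]
  apply gam_trans_inj
  have h1 := congrArg gam (eich_conj x (1 : F) (sf_zero_right v))
  rw [act_zero, map_mul, map_mul, map_inv, hx, one_mul, inv_one, mul_one] at h1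
  exact h1.symm

/-- The exceptional automorphism of `Sp_4`. -/
noncomputable def gamEquiv : MulAut G4 :=
  MulEquiv.ofBijective gam (Finite.injective_iff_bijective.mp gam_injective)

/-- The exceptional automorphism of `PSp_4`. -/
noncomputable def gamP : MulAut P4 := descend gamEquiv

theorem gamP_apply (x : G4) : gamP (ps x : P4) = ps (gam x) := rfl

theorem gam_short : gam (eich (se 0 : V4) 0 1) = eich (se 0) (se 1) 0 := by
  apply ext_val
  have h01 : sf (se 0 : V4) (se 1) = 0 := by rw [sf_se_left]; simp [se]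
  have hv : ∀ a b : Fin 2 ⊕ Fin 2, (gam (eich (se 0 : V4) 0 1)).1 a b =
      ((eich (se 0 : V4) 0 (1 : F)).1 (pI a) (pI b) * (eich (se 0 : V4) 0 (1 : F)).1 (qI a) (qI b) -
        (eich (se 0 : V4) 0 (1 : F)).1 (pI a) (qI b) *
          (eich (se 0 : V4) 0 (1 : F)).1 (qI a) (pI b)) := fun _ _ => rfl
  ext a b
  rw [hv, eich_entry _ h01]
  simp only [eich_entry _ (sf_zero_right _)]
  rcases a with a | a <;> rcases b with b | b <;> fin_cases a <;> fin_cases b <;>
    simp [pI, qI, sf, form_eq, Fin.sum_univ_two, se, CharTwo.neg_eq, CharTwo.sub_eq_add]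

/-- A pair of vectors spanning a totally isotropic plane can be moved to `(e, z)`. -/
theorem exists_move_pair {i j : Fin 2} {e z : V4} (hij : j ≠ i) (he : e ≠ 0) (hez : sf e z = 0)
    (hline : ∀ c : F, z ≠ c • e) :
    ∃ (g : G4) (r : F), act g e = se i ∧ act g z = se j + r • se i := by
  obtain ⟨g₁, hg₁⟩ := exists_act_eq he (se_ne_zero (F := F) i)
  have hez₁ : sf (se i) (act g₁ z) = 0 := by rw [← hg₁, sf_act]; exact hez
  set w := projW i (act g₁ z) with hw
  have hwW : w ∈ Wsub i := projW_mem i _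
  have hzw : act g₁ z = w + sf (act g₁ z) (sff i) • se i := by
    rw [hw, projW, hez₁, zero_smul]; abel
  have hw0 : w ≠ 0 := fun h0 => hline (sf (act g₁ z) (sff i)) (act_injective g₁ (by
    rw [act_smul, hg₁]
    conv_lhs => rw [hzw, h0, zero_add]))
  obtain ⟨g₂, hg₂e, -, hg₂w⟩ := exists_W_move hwW
    (show (se j : V4) ∈ Wsub i from ⟨by simp [se], by simp [se, Ne.symm hij]⟩) hw0 (se_ne_zero j)
  exact ⟨g₂ * g₁, sf (act g₁ z) (sff i), by rw [act_mul, hg₁, hg₂e],
    by rw [act_mul]; conv_lhs => rw [hzw, act_add, act_smul, hg₂w, hg₂e]⟩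

/-- Normal form of an Eichler element which is not a transvection. -/
theorem isConj_normal {e z : V4} (a : F) (he : e ≠ 0) (hez : sf e z = 0)
    (hline : ∀ c : F, z ≠ c • e) :
    IsConj (ps (eich e z a) : P4) (ps (eich (se 0) (se 1) a)) := by
  obtain ⟨g, r, hge, hgz⟩ := exists_move_pair (i := 0) (j := 1) (by decide) he hez hline
  have h1 := isConj_eich g a hez
  rw [hge, hgz, eich_shift _ _ (by rw [sf_se_left]; simp [se]),
    show (2 : F) = 0 from CharP.cast_eq_zero F 2, zero_mul, add_zero] at h1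
  exact h1

theorem se01 : sf (se 0 : V4) (se 1) = 0 := by rw [sf_se_left]; simp [se]

theorem not_TP4 {a : F} (ha : a ≠ 0) : ¬ TP (ps (eich (se 0 : V4) (se 1) a) : P4) := by
  intro hTP
  have hW0 : (se 1 : V4) ∈ Wsub 0 ∧ (sff 1 : V4) ∈ Wsub 0 :=
    ⟨⟨by simp [se], by simp [se]⟩, ⟨by simp [sff], by simp [sff]⟩⟩
  have hW1 : (se 0 : V4) ∈ Wsub 1 := ⟨by simp [se], by simp [se]⟩
  obtain ⟨g₁, hg₁e, -, hg₁z⟩ := exists_W_move hW0.1 hW0.2 (se_ne_zero 1) (sff_ne_zero 1)
  obtain ⟨B, -, hBe, hBf⟩ := Cfsg.Agent.Lead.Symp.exists_pair (sf_se_sff (F := F) (0 : Fin 2))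
    (sf_se_sff (F := F) (1 : Fin 2))
  have hBW : act B (se 1 : V4) ∈ Wsub 1 := by
    refine mem_W_of ?_ ?_
    · rw [← show act B (se 0) = (se 1 : V4) from hBe, sf_act]
      rw [show act B (se 0) = (se 1 : V4) from hBe]
      exact (W_perp hW0.1).1
    · rw [← show act B (sff 0) = (sff 1 : V4) from hBf, sf_act]
      exact (W_perp hW0.1).2.2.1
  obtain ⟨C, hCe, -, hCz⟩ := exists_W_move hBW hW1 (act_ne_zero (se_ne_zero 1) B) (se_ne_zero 0)
  have h1 := isConj_eich g₁ a se01
  rw [hg₁e, hg₁z] at h1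
  have h3 := isConj_eich (C * B) a se01
  rw [act_mul, show act B (se 0) = (se 1 : V4) from hBe, hCe, act_mul, hCz] at h3
  have h10 : sf (se 1 : V4) (se 0) = 0 := (W_perp hW0.1).2.1
  set y := eich (se 1 : V4) (se 0) a with hy
  have hye : act y (se 0) = se 0 := by
    rw [hy, act_eich a h10, h10, show sf (se 0 : V4) (se 0) = 0 from form_self _]
    simp
  have hyG : IsPGroup 2 (Subgroup.zpowers y) := by
    rintro ⟨r, hr⟩
    obtain ⟨j, rfl⟩ := Subgroup.mem_zpowers_iff.mp hr
    exact ⟨2, Subtype.ext (by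
      change (y ^ j) ^ (2 ^ 2) = 1
      rw [← zpow_natCast, ← _root_.zpow_mul, mul_comm, _root_.zpow_mul, zpow_natCast, hy,
        eich_pow_p2 (p := 2) a h10, _root_.one_zpow])⟩
  have hn : Subgroup.zpowers y ≤ Subgroup.normalizer (Qg (se 0 : V4) : Set G4) := by
    rw [Subgroup.zpowers_le, Subgroup.mem_normalizer_iff]
    have key : ∀ s : G4, act s (se 0) = se 0 → ∀ q ∈ Qg (se 0 : V4), s * q * s⁻¹ ∈ Qg (se 0) := by
      rintro s hs _ ⟨z', a', h', rfl⟩
      refine ⟨act s z', a', ?_, by rw [eich_conj s a' h', hs]⟩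
      rw [← hs, sf_act]
      exact h'
    intro q
    refine ⟨key y hye q, fun h => ?_⟩
    have h' := key y⁻¹ (by conv_lhs => rw [← hye, act_inv_act]) _ h
    group at h'
    exact h'
  have hR : IsPGroup 2 ((Subgroup.zpowers y ⊔ Qg (se 0 : V4)).map (ps : G4 →* P4)) :=
    (IsPGroup.to_sup_of_normal_right' hyG (isPGroup_Qg _) hn).map _
  have hxy := hTP _ hR _ (ps y) h1 h3
    ⟨_, Subgroup.mem_sup_right ⟨_, a, (W_perp hW0.2).1, rfl⟩, rfl⟩
    ⟨y, Subgroup.mem_sup_left (Subgroup.mem_zpowers y), rfl⟩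
  rw [← map_mul, ← map_mul] at hxy
  have h4 := congrArg (fun g => act g (sff 0) (.inr 1)) (ps_injective hxy)
  simp only [act_mul, hy, act_eich a h10, act_eich a (W_perp hW0.2).1] at h4
  simp [sf, form_eq, Fin.sum_univ_two, se, sff, ha] at h4

/-- A normal-form Eichler element is no transvection. -/
theorem not_trans (a : F) (u : V4) (s : F) : eich (se 0 : V4) (se 1) a ≠ eich u 0 s := by
  intro h
  have hW0 : (sff 1 : V4) ∈ Wsub 0 := ⟨by simp [sff], by simp [sff]⟩
  have h0 := congrArg (fun g => act g (sff (0 : Fin 2))) h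
  have h1 := congrArg (fun g => act g (sff (1 : Fin 2))) h
  have h10 : sf (se 1 : V4) (sff 0) = 0 := by simp [sf, form_eq, se, sff, Fin.sum_univ_two]
  simp only [act_eich _ se01, act_eich_zero, sf_se_sff, h10, (W_perp hW0).1, add_assoc,
    add_right_inj, one_smul, zero_smul, mul_zero, zero_add, mul_one, add_zero] at h0 h1
  have e0 := congrFun h1 (.inr 0)
  have e1 := congrFun h1 (.inr 1)
  have e2 := congrFun h0 (.inr 1)
  simp [se] at e0 e1 e2
  rcases e1 with h3 | h3
  · rcases h3 with h4 | h4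
    · exact one_ne_zero (e2.trans (by rw [h4]; ring))
    · exact one_ne_zero (e0.trans (by rw [h4]; ring))
  · exact one_ne_zero (e2.trans (by rw [h3]; ring))

/-- All non-trivial transvections are conjugate. -/
theorem trans_isConj {v : V4} (hv : v ≠ 0) {t : F} (ht : t ≠ 0) :
    IsConj (ps (eich (se 0 : V4) 0 1) : P4) (ps (eich v 0 t)) := by
  obtain ⟨r, hr⟩ := FiniteField.isSquare_of_char_two (ringChar.eq F 2) t
  have hr0 : r ≠ 0 := fun h => ht (by rw [hr, h, mul_zero])
  obtain ⟨g, hg⟩ := exists_act_eq (se_ne_zero (F := F) (0 : Fin 2)) (smul_ne_zero hr0 hv)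
  have h := isConj_eich g (1 : F) (sf_zero_right (se 0 : V4))
  rw [hg, act_zero, eich_smul _ hr0 (sf_zero_right _), smul_zero, mul_one, ← hr] at h
  exact h

theorem gamP_not_HI : ¬ HI (gamP : MulAut P4) := by
  intro h
  obtain ⟨w, -, hw⟩ := h (se 0) (se_ne_zero _)
  obtain ⟨s, hs⟩ : gamP (ps (eich (se 0 : V4) 0 1) : P4) ∈ (Tb w : Set P4) :=
    hw ▸ ⟨_, mem_Tb _ _, rfl⟩
  rw [gamP_apply, gam_short] at hs
  exact not_trans 0 w s (ps_injective hs)

/-- Up to the exceptional automorphism every automorphism permutes the transvection groups. -/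
theorem HI_or (α : MulAut P4) : HI α ∨ HI ((gamP : MulAut P4)⁻¹ * α) := by
  set t₀ : P4 := ps (eich (se 0 : V4) 0 1) with ht₀
  have ht₀1 : t₀ ≠ 1 := fun h => by
    have h1 := congrArg (fun g => act g (sff 0)) (ps_injective (h.trans (map_one ps).symm))
    simp [act_eich_zero, act_one, sf_se_sff, se_ne_zero] at h1
  have hHI : ∀ β : MulAut P4, IsConj t₀ (β t₀) → HI β := by
    intro β hβ v hv
    obtain ⟨w, hw, htarget⟩ := exists_target (m := 2) (by omega) β hv
    refine ⟨w, hw, Tb_image_eq hv hw ?_⟩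
    rintro _ ⟨_, ⟨t, rfl⟩, rfl⟩
    obtain ⟨z, a, hwz, hx⟩ := htarget t
    by_cases hline : ∀ c : F, z ≠ c • w
    swap
    · push Not at hline
      obtain ⟨c, rfl⟩ := hline
      refine ⟨a + 2 * c, ?_⟩
      rw [hx]
      congr 1
      conv_lhs => rw [← zero_add (c • w), eich_shift _ _ (sf_zero_right w)]
    exfalso
    rcases eq_or_ne t 0 with rfl | ht
    · rw [eich_zero_zero, map_one, map_one] at hx
      have h1 : IsConj (1 : P4) (ps (eich (se 0) (se 1) a)) := by
        conv_lhs => rw [hx]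
        exact isConj_normal a hw hwz hline
      refine not_trans a (se 0) 0 (ps_injective ?_)
      rw [eich_zero_zero, map_one, isConj_one_right.mp h1]
    have h1 : IsConj t₀ (β (ps (eich v 0 t))) :=
      hβ.trans (β.toMonoidHom.map_isConj (trans_isConj hv ht))
    rw [hx] at h1
    obtain ⟨c, hc⟩ := isConj_iff.mp (h1.trans (isConj_normal a hw hwz hline))
    obtain ⟨g, rfl⟩ := ps_surjective c
    rw [ht₀, ← map_inv, ← map_mul, ← map_mul, eich_conj _ _ (sf_zero_right _), act_zero] at hc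
    exact not_trans a _ 1 (ps_injective hc).symm
  obtain ⟨w, hw, htarget⟩ := exists_target (m := 2) (by omega) α (se_ne_zero (F := F) (0 : Fin 2))
  obtain ⟨z, a, hwz, hx⟩ := htarget 1
  have hTP : TP (ps (eich w z a) : P4) := hx ▸ TP_map α (TP_trans _ _)
  by_cases hline : ∀ c : F, z ≠ c • w
  · refine Or.inr (hHI _ ?_)
    have hn := isConj_normal a hw hwz hline
    have ha : a = 0 := by
      by_contra ha
      refine not_TP4 ha ?_
      obtain ⟨c, hc⟩ := isConj_iff.mp hn
      rw [← hc]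
      exact TP_map (MulAut.conj c) hTP
    rw [ha, ← gam_short, ← gamP_apply, ← ha] at hn
    have h1 := ((gamP : MulAut P4)⁻¹).toMonoidHom.map_isConj hn
    refine (show IsConj ((gamP : MulAut P4)⁻¹ (α t₀)) t₀ from ?_).symm
    rw [ht₀, hx]
    simpa using h1
  · refine Or.inl (hHI _ ?_)
    push Not at hline
    obtain ⟨c, rfl⟩ := hline
    rw [← zero_add (c • w), eich_shift _ _ (sf_zero_right w)] at hx
    rw [ht₀, hx]
    refine trans_isConj hw fun h0 => ht₀1 (α.injective ?_)
    rw [ht₀, hx, h0, eich_zero_zero, map_one, map_one]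

theorem card_aut4 {f : ℕ} (hF : Fintype.card F = 2 ^ f) :
    Nat.card (MulAut P4) = 2 * Nat.gcd 2 (2 ^ f - 1) * f * Nat.card P4 := by
  classical
  have : Fact (Nat.Prime 2) := ⟨Nat.prime_two⟩
  have hHI : ∀ (g : Cfsg.GSp 2 F) (σ : F ≃+* F), HI (cS g * fS σ : MulAut P4) := fun g σ v hv => by
    obtain ⟨c, hc⟩ := g.2
    exact ⟨_, fun h => hv (sact_injective g σ (h.trans (sact_zero g σ).symm)),
      Tb_sact c.ne_zero hc v⟩
  let Φ : Bool × (cS (m := 2) (F := F)).range × (F ≃+* F) → MulAut P4 :=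
    fun x => bif x.1 then gamP * (x.2.1.1 * fS x.2.2) else x.2.1.1 * fS x.2.2
  have hcancel : ∀ {g g' : Cfsg.GSp 2 F} {σ σ' : F ≃+* F},
      (gamP : MulAut P4) * (cS g * fS σ) ≠ cS g' * fS σ' := by
    intro g g' σ σ' h
    refine gamP_not_HI (F := F) ?_
    rw [eq_mul_inv_of_mul_eq h]
    exact HI_mul (hHI g' σ') (HI_sem_inv g σ)
  have hbij : Function.Bijective Φ := by
    constructor
    · rintro ⟨b, ⟨_, g, rfl⟩, σ⟩ ⟨b', ⟨_, g', rfl⟩, σ'⟩ h
      cases b <;> cases b' <;> simp only [Φ, cond_true, cond_false] at h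
      · obtain ⟨h1, rfl⟩ := decomp_unique (by omega) h
        simp [h1]
      · exact absurd h.symm hcancel
      · exact absurd h hcancel
      · obtain ⟨h1, rfl⟩ := decomp_unique (by omega) (mul_left_cancel h)
        simp [h1]
    · intro α
      rcases HI_or α with h | h
      · obtain ⟨g, σ, rfl⟩ := aut_decomp_of_HI le_rfl α h
        exact ⟨(false, ⟨_, g, rfl⟩, σ), rfl⟩
      · obtain ⟨g, σ, hgs⟩ := aut_decomp_of_HI le_rfl _ h
        exact ⟨(true, ⟨_, g, rfl⟩, σ), by
          simp only [Φ, cond_true]; rw [← hgs, mul_inv_cancel_left]⟩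
  obtain ⟨e⟩ := PSLn.fieldAut_equiv (p := 2) hF
  rw [← Nat.card_eq_of_bijective Φ hbij, Nat.card_prod, Nat.card_prod, card_range_cS (by omega),
    Nat.card_congr e.toEquiv, Nat.card_congr Multiplicative.toAdd, Nat.card_zmod, hF,
    Nat.card_eq_fintype_card, Fintype.card_bool]
  ring

end Cfsg.Agent.Small.PSpn
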